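import Cfsg.Agent.Cod.Gen

/-! Cayley tables of two groups of order 128 and of `L₃(2)`. -/

set_option autoImplicit false
set_option maxRecDepth 1000000
set_option maxHeartbeats 0
set_option Elab.async false

namespace CF.GH3

open CF.Comp CF.Cod

noncomputable def RQ4 : List (List Nat) := [[(nat_lit 1), (nat_lit 1)],
  [(nat_lit 3), (nat_lit 3)],
  [(nat_lit 5), (nat_lit 5)],
  [(nat_lit 7), (nat_lit 7)],
  [(nat_lit 9), (nat_lit 9)],
  [(nat_lit 1), (nat_lit 3), (nat_lit 1), (nat_lit 3), (nat_lit 10)],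
  [(nat_lit 1), (nat_lit 5), (nat_lit 1), (nat_lit 5), (nat_lit 10)],
  [(nat_lit 1), (nat_lit 7), (nat_lit 1), (nat_lit 7), (nat_lit 10)],
  [(nat_lit 3), (nat_lit 5), (nat_lit 3), (nat_lit 5), (nat_lit 10)],
  [(nat_lit 3), (nat_lit 7), (nat_lit 3), (nat_lit 7), (nat_lit 10)],
  [(nat_lit 5), (nat_lit 7), (nat_lit 5), (nat_lit 7), (nat_lit 10)]]
noncomputable def Ra : List (List Nat) := [[(nat_lit 11), (nat_lit 1), (nat_lit 12), (nat_lit 4)],
  [(nat_lit 11), (nat_lit 3), (nat_lit 12), (nat_lit 2)],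
  [(nat_lit 11), (nat_lit 5), (nat_lit 12), (nat_lit 8)],
  [(nat_lit 11), (nat_lit 7), (nat_lit 12), (nat_lit 6)]]
noncomputable def Rb : List (List Nat) := [[(nat_lit 13), (nat_lit 1), (nat_lit 14), (nat_lit 6)],
  [(nat_lit 13), (nat_lit 3), (nat_lit 14), (nat_lit 8)],
  [(nat_lit 13), (nat_lit 5), (nat_lit 14), (nat_lit 2)],
  [(nat_lit 13), (nat_lit 7), (nat_lit 14), (nat_lit 4)]]
noncomputable def Rs : List (List Nat) := [[(nat_lit 11), (nat_lit 1), (nat_lit 12), (nat_lit 4), (nat_lit 10)],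
  [(nat_lit 11), (nat_lit 3), (nat_lit 12), (nat_lit 2), (nat_lit 10)],
  [(nat_lit 11), (nat_lit 5), (nat_lit 12), (nat_lit 6), (nat_lit 10)],
  [(nat_lit 11), (nat_lit 7), (nat_lit 12), (nat_lit 8), (nat_lit 10)]]
noncomputable def SA0 : List (List Nat) := [[(nat_lit 11), (nat_lit 11)],
  [(nat_lit 13), (nat_lit 13)],
  [(nat_lit 11), (nat_lit 13), (nat_lit 11), (nat_lit 13)]]
noncomputable def RA0 : List (List Nat) := lapp RQ4 (lapp Ra (lapp Rb SA0))
noncomputable def SA1 : List (List Nat) := [[(nat_lit 11), (nat_lit 11), (nat_lit 10)],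
  [(nat_lit 13), (nat_lit 13), (nat_lit 10)],
  [(nat_lit 11), (nat_lit 13), (nat_lit 11), (nat_lit 13), (nat_lit 10)]]
noncomputable def RA1 : List (List Nat) := lapp RQ4 (lapp Ra (lapp Rb SA1))
noncomputable def SB00 : List (List Nat) := [[(nat_lit 11), (nat_lit 11)],
  [(nat_lit 13), (nat_lit 13)],
  [(nat_lit 11), (nat_lit 13), (nat_lit 11), (nat_lit 13), (nat_lit 11), (nat_lit 13), (nat_lit 11), (nat_lit 13)]]
noncomputable def RB00 : List (List Nat) := lapp RQ4 (lapp Rs (lapp Rb SB00))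
noncomputable def SB01 : List (List Nat) := [[(nat_lit 11), (nat_lit 11), (nat_lit 10)],
  [(nat_lit 13), (nat_lit 13)],
  [(nat_lit 11), (nat_lit 13), (nat_lit 11), (nat_lit 13), (nat_lit 11), (nat_lit 13), (nat_lit 11), (nat_lit 13)]]
noncomputable def RB01 : List (List Nat) := lapp RQ4 (lapp Rs (lapp Rb SB01))
noncomputable def SB10 : List (List Nat) := [[(nat_lit 11), (nat_lit 11)],
  [(nat_lit 13), (nat_lit 13), (nat_lit 10)],
  [(nat_lit 11), (nat_lit 13), (nat_lit 11), (nat_lit 13), (nat_lit 11), (nat_lit 13), (nat_lit 11), (nat_lit 13), (nat_lit 10)]]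
noncomputable def RB10 : List (List Nat) := lapp RQ4 (lapp Rs (lapp Rb SB10))
noncomputable def SB11 : List (List Nat) := [[(nat_lit 11), (nat_lit 11), (nat_lit 10)],
  [(nat_lit 13), (nat_lit 13), (nat_lit 10)],
  [(nat_lit 11), (nat_lit 13), (nat_lit 11), (nat_lit 13), (nat_lit 11), (nat_lit 13), (nat_lit 11), (nat_lit 13), (nat_lit 10)]]
noncomputable def RB11 : List (List Nat) := lapp RQ4 (lapp Rs (lapp Rb SB11))

noncomputable def TA0_c0 : BT (Bx Nat) := (BT.node (nat_lit 1) (BT.leaf (Bx.mk (nat_lit 0x5af9c459abdcbd68ba33784ca74474d9fa848aa42c472d2ab4e890a02660e96202869e2e707893e3089b2a20c921668a0e0e182840608080))) (BT.leaf (Bx.mk (nat_lit 0xfffbc74f5efbfdf3dbafce7cb0e2d5bb4d6d7bf6dbab7b2ddb3c38e0a59b257d1631dab9b33d1a77ea509ec5dc34d2a4a980d5e3098ce0c7))))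
noncomputable def TA0_c1 : BT (Bx Nat) := (BT.node (nat_lit 1) (BT.leaf (Bx.mk (nat_lit 0x30c28e880833cca04e1d3b0bf03e657ee1c3636b962b486101f3a23a972052c56103bf12a13836c1842446095250a74b91324859a2838001))) (BT.leaf (Bx.mk (nat_lit 0xf1d35e5d58adffad56f7ebb667edd387845fbef7bc732be4983eb7315dd79adf31f93353dfb466899eb7e28a1383f9b21eb5536216b371bb))))
noncomputable def TA0_c3 : BT (Bx Nat) := (BT.node (nat_lit 1) (BT.leaf (Bx.mk (nat_lit 0xaf7cc6592949d43992896ba4adc74036653156a1d01355d1a29166af0f18837089213d1ed01a372c829d2e2d7061cad3813e3089b2a00402))) (BT.leaf (Bx.mk (nat_lit 0xefeb46fc1fb762ff631d6a59b64ef9e67f1d3875fd81c9e36ebe357b7d299c862aa0f67fd133859cdaa8dbc10ad8979ddc607914b5266ce7))))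
noncomputable def TA0_c5 : BT (Bx Nat) := (BT.node (nat_lit 1) (BT.leaf (Bx.mk (nat_lit 0xcc66f224d22a92214b19b2772b218d3460aa112c9a1ceea5310f184c8e18b0468a1f410a7488b66e0ab7049c3ad28b00a31a78b9c003c483))) (BT.leaf (Bx.mk (nat_lit 0xf7e786cff83f5bdd92beacf4747d9ddf2fc8bd27f1e6ff6f66b8717a96f64b2f1094c0eac5ca548db92bd3bd720bf0eeba3ebf5aa9568c58))))
noncomputable def TA0_c7 : BT (Bx Nat) := (BT.node (nat_lit 1) (BT.leaf (Bx.mk (nat_lit 0x75497e242fe6e62b1090f615d1337b76f141d60609a636888a0c5dc39328297222e006380dbac0ed4d8268ad32934054242660e802c40504))) (BT.leaf (Bx.mk (nat_lit 0xf9f7f7fe1bf66bd17ea65b57307bf53adf9f116b7796e3a4290f27f1ecb5772dbce32a65a63f54ef92a3c3b9cc1ce78fe3ab675364192619))))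
noncomputable def TA0_c9 : BT (Bx Nat) := (BT.node (nat_lit 1) (BT.leaf (Bx.mk (nat_lit 0x6aa94e9264a4c86901fb74c9708d191e32848f9eac46cd92b4f3c3869b30216202a243067078976e811b2a2182f0268a0e428001d2e44585))) (BT.leaf (Bx.mk (nat_lit 0xfdffe7df3dfdf4f5cf978edd676cd1822f0cb6de6fc98f5e7cd598eeb566ad4d57ef52a38aedca162bd345c4f9e8505cb85cb7699312e536))))
noncomputable def TA0_c11 : BT (Bx Nat) := (BT.node (nat_lit 1) (BT.leaf (Bx.mk (nat_lit 0x2ba8a13d247410cd947e3c4386e1178055eb96c4d9af58454a21e7859c1264a911a2838705fbd7809d386ac98815eb54a5440101e3048606))) (BT.leaf (Bx.mk (nat_lit 0xedcf3e4bf76d58abfe9d2fd426cb931e24280f9db9faddb7c68cd82ef6b3d2b55e54784e9bba4ebd11f2427f89de07379bdc68ced2fb0b6b))))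
noncomputable def TA0_c13 : BT (Bx Nat) := (BT.node (nat_lit 1) (BT.leaf (Bx.mk (nat_lit 0xd65351223a4868ce3f2e41d8860bc22b05fba26ddab022b55a4182cf093a6cb931c1c5890a03e04f1db96ccc0b160b9526008909f324c687))) (BT.leaf (Bx.mk (nat_lit 0xebcb363bd72cd7a94ffd1a1fa64a911a1c17ef5d386ff5ab4f8c97ad59ed5fa52a3ca7f095277ec8fa734078ef139c0def35b8c17da5b615))))
noncomputable def TA0_w : BT (Bx Nat) := (BT.node (nat_lit 1) (BT.leaf (Bx.mk (nat_lit 0xb35000d15000b15000db3000d93000b93000d73000b73000573000d53000b53000753000d13000b13000db1000d91000b91000d71000b71000571000371000d51000b51000751000351000d31000b310007310005310000db0000d90000b90000d70000b70000970000570000370000170000d50000b50000950000750000350000150000d30000b30000930000730000530000130000d10000b100009100007100005100003100000d00000b000009000007000005000003000001000000))) (BT.leaf (Bx.mk (nat_lit 0xdb5731db75310db5730db7530db5710db3710db7510db3510db7310d57310b57310db5310d75310b753100db9700db5700db3700db1700db9500db7500db3500db1500db9300db7300d57300b57300db5300d75300b75300db1300db9100db7100d57100b57100d37100b37100db5100d75100b75100d35100b35100db3100d73100b73100573100d53100b531007531000db9000db7000d97000b97000d57000b57000d37000b37000d17000b17000db5000d95000b95000d75000b75000d35))))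
noncomputable def TA0_cols : List (BT (Bx Nat)) := [TA0_c0, TA0_c1, TA0_c1, TA0_c3, TA0_c3, TA0_c5, TA0_c5, TA0_c7, TA0_c7, TA0_c9, TA0_c9, TA0_c11, TA0_c11, TA0_c13, TA0_c13]
noncomputable def TA0_ch (x j : Nat) : Bx Nat := chk TA0_cols x j
noncomputable def TA0_wc (_ j : Nat) : Bx Nat := TA0_w.get j
noncomputable def TA0 : CT := ⟨(nat_lit 128), (nat_lit 7), (nat_lit 127), TA0_ch, (nat_lit 24), (nat_lit 16777215), TA0_wc, (nat_lit 32766)⟩
theorem TA0_ok : TA0.ok = true := by decide +kernel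
theorem TA0_rel : lall TA0.relOK RA0 = true := by decide +kernel
noncomputable def eA0_c0 : BT (Bx Nat) := (BT.leaf (Bx.mk (nat_lit 0x0)))
noncomputable def eA0_c1 : BT (Bx Nat) := (BT.leaf (Bx.mk (nat_lit 0xc479511d4c46c51198c46b3118d445c44201445774158845f641fc845e311688450411b9046a41189507151119107e441f15070510f5d03a3112d907d31128c442441ed506f510c9d02f335d8d074734b9907a311210d73540d1cd2a641e184773111cc4357409cc43e310e0d0725108d9043634e5d0204359d10657347d105b43555906d310898d36511390d64640f1cd19640c50d52641a54441310858468511352c517405144444ad510459634c19061510fd443361181845d5ac756b1c7403984585b05d69166114dcd0d5b0456a106413d1045434ed844c61125840b410b5042c81015d00861101840a410a504288101184377341d84094109504248100d842b61099550676c79d81875449841a6104d040c9046e41159043e0401904080000)))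
noncomputable def eA0_c2 : BT (Bx Nat) := (BT.leaf (Bx.mk (nat_lit 0x14578249ed4569349c14561115fcd26f3158d928054964cb645155dd25332d9d056d5153c857d215e8d250549c9056a41589526c649f95241215cd453d748dc8576449e5526b649f1523f3152d5234315254532748acc542415dcc540649d5d227314e5272d615d0c5365b4a4856e649c5122262cb9924542d7d923c42d75923172c7d4523515318b2a748690b5a415a10b5841581cb1964999454a62c99d21442d55671d615950b525b45d055e72c4d925c51520c52174839454d31552050b6156d454441546050a61559453b59c6d661564918c54e42cc1d2086151d8511414e20505414958543614f98510414d6050441491853a614cd5e0678479de1861431852f72c1dd60f904b241288140985206143505129047241168140641099040c0000)))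
noncomputable def eA0_c3 : BT (Bx Nat) := (BT.leaf (Bx.mk (nat_lit 0x8c7c331e8cc71331b4468051984867f51970cc6f331955158331accc68745490669219f9464f219e10666219f54646219d4cc50531c88674545014c6e219ddd136419894c63631ecc64c544f8c64a544cd8c793190dd12a319050676518c8c63a7449a0625318dd86734a0b0866a631c18c2f444850c60645110c5e644edcc20644c18c6c630ad464b4316dd11943165066773069065f5188d8c27519250c567444e06114314d86645a071cc14419758c5731889464751939d10d8182cc65151915865a5a06d460f518f18655905520609630f50c313193586487441d8617818150635418a5863f619096406790798612618318634618e5df16904e2060367ca1cc08618b9d915904b6060290491860e6187d061890476060190442410a904100000)))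
noncomputable def eA0_c4 : BT (Bx Nat) := (BT.leaf (Bx.mk (nat_lit 0x477d11df88e7f23a00ce71339c0ce6d339b0ce6921d81cf5533998c75b21d75076121df0877b51d3d075c21de8877951d19075721de0c74c73ce4877531d0cc74951cf4ce50539c8ce7773cb9ce2f33dcd4e6e439d0c747738ad4f33539a8c74861dd9472831cfdcf2681c908762639bd8e3a63d090e6873c7dce2043d910e5643d698e6b638dcc72143995474d738698f3b4394d8f306398cc72251d01474e61d9d471651d15cf1381c418e3141d61472351cd1473e61d79875f51c55470f61d65cf0d81c29a55473839875281c264151638c90e3c43d11874a61d2d070661c61871261c31874173c1de51d81c11a538694b5ce0861cd9e21c81c0e4135688b1872761ca9dc1b81c0a412990495871461c655c1e81c06411790446410b904140000)))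
noncomputable def eA0_c5 : BT (Bx Nat) := (BT.leaf (Bx.mk (nat_lit 0x1147f32201147d321f9147a45de0c87c321d4c87b5b9d163734bde50877421d8884f451b5176946984ee46321c4c86648170f13d321c16e6558d912f6c421a1086748d5cf332321bd6e5b58d6960565c554c86b42181085f5694d73523218d085e42175885142165085878d5094233b9c908204207d6e4358d09603a5c4e55d2f5bcb8886e42069081942131084b568dd733655cad702a221a908144204d084a42125883542105084078ce172275509888625c4396e0d421210847620a58825420fd083e78cb58824420d10833780b1dd281214088082201d6f4e5753608056205d88116202d714558112080478c75881062029633c5b8ee080378071dd16620250831420c208027686dd7157503cd7223508608019047a41189044a410c904180000)))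
noncomputable def eA0_c6 : BT (Bx Nat) := (BT.leaf (Bx.mk (nat_lit 0x1d37774dd1d36874d95d36074d79d35b74d65d35662602095474d4d897f82545d34e74d31d34a74d21d34574d0dd34174cfdd33c74ce9897e824e1d337625f6093574cd1d33174cbd897c824b5897b824b1d32b625ea0929625e6092874c9d8978824964176625d60924905cdd32274c81897282479897182475897082471896f8246dd31a625ba0918625b60917625b20916625ae091574c51896a8244989698244641676259a09109059189638243dd30e6258a090c62586090b9057e415d62572090a9056a41586255e090990556415274c21895082419894f82416414d9052e41499051d89468241241449050a4140904f9893d8240e413b904e64136904cd89328240a4130904ba412a9049989238240641219047e41199044e410d9041c0000)))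
noncomputable def eA0_c7 : BT (Bx Nat) := (BT.leaf (Bx.mk (nat_lit 0x20a76829ce0a67829920a5f829760a5a829620a558295241808294a0a51905fe0a4d8292e0a498291e0a448290a0a40828fa0a3b828e60a38905fa0a36828d6417d828ce0a30828ba0a2d905f20a2c905ee0a2a828a6417a828a241798289a0a25905e24177828924175905d20a218287e0a1e905ca0a1d905c60a1c905c20a1b905be0a1982862416e8285e416d8285a416c82856416b8284e0a12905aa0a11905a64168828424166905960a0f9058e0a0d8283241628282e416190582415e8282a415c9056e41598282641579055a41538281e0a06905420a059053e414e90532414a905220a049051a41459050e4141904fe0a03904f6413c904ea4137904d20a02904ca4131904be412b9049e0a019048e412290482411a90452410e904200000)))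
noncomputable def eA0_p : BT (Bx Nat) := (BT.leaf (Bx.mk (nat_lit 0x19d87ce63d671eb20f57c7aba3d5a1eac0f5547aa83d541aa90f5447aa2344d1e258f124788e3c441e210f100787c3c3b1e1c8f0e0787034361e1a8f0d468663c301e170f0b4785a342c1e160d0a878523c291a140f0a0684c3c251e128d09438483c241a1208c84763e3b1e1d8f0cc74763a331c1d8e0cc6c763633191d8c0ec60662e3b17198b0ec58662a3b1519898ec48762433111d888cc4436203b10198808c3c761e330d1d860ec3066163b0b198586c2c26143b0a198508c2826123b09198488c24340e3a061d030c814740a3205150286814240a0a041d020c8105408220409020280c7406320315018880c34060a021d010c808540422020d010440472023101148088404320211010400000000)))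
noncomputable def eA0_e : BT Nat := BT.leaf (nat_lit 0)
noncomputable def eA0_cols : List (BT (Bx Nat)) := [eA0_c0, eA0_c1, eA0_c2, eA0_c3, eA0_c4, eA0_c5, eA0_c6, eA0_c7]
noncomputable def eA0_ch (x j : Nat) : Bx Nat := chunkG eA0_cols (nat_lit 1) x j
noncomputable def eA0_L (x : Nat) : Bx (Nat → Nat) := lookG eA0_ch (nat_lit 8) (nat_lit 255) (nat_lit 18) (nat_lit 262143) x
noncomputable def eA0_pc (_ j : Nat) : Bx Nat := eA0_p.get j
noncomputable def eA0_pb : Bx (Nat → Nat) := lookG eA0_pc (nat_lit 8) (nat_lit 255) (nat_lit 17) (nat_lit 131071) (nat_lit 0)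
noncomputable def eA0_rots : BT CW := (BT.node (nat_lit 25) (BT.node (nat_lit 12) (BT.node (nat_lit 6) (BT.node (nat_lit 3) (BT.node (nat_lit 1) (BT.leaf ⟨[], (nat_lit 1000000), (nat_lit 0), (nat_lit 0), (nat_lit 0)⟩) (BT.node (nat_lit 2) (BT.leaf ⟨[], (nat_lit 1000000), (nat_lit 0), (nat_lit 0), (nat_lit 1)⟩) (BT.leaf ⟨[], (nat_lit 1000000), (nat_lit 0), (nat_lit 0), (nat_lit 2)⟩))) (BT.node (nat_lit 4) (BT.leaf ⟨[(nat_lit 1), (nat_lit 1)], (nat_lit 0), (nat_lit 0), (nat_lit 0), (nat_lit 3)⟩) (BT.node (nat_lit 5) (BT.leaf ⟨[(nat_lit 2), (nat_lit 2)], (nat_lit 1), (nat_lit 0), (nat_lit 0), (nat_lit 3)⟩) (BT.leaf ⟨[(nat_lit 3), (nat_lit 3)], (nat_lit 2), (nat_lit 0), (nat_lit 0), (nat_lit 3)⟩)))) (BT.node (nat_lit 9) (BT.node (nat_lit 7) (BT.leaf ⟨[(nat_lit 4), (nat_lit 4)], (nat_lit 3), (nat_lit 0), (nat_lit 0), (nat_lit 3)⟩) (BT.node (nat_lit 8) (BT.leaf ⟨[(nat_lit 5), (nat_lit 5)], (nat_lit 4), (nat_lit 0), (nat_lit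 0), (nat_lit 3)⟩) (BT.leaf ⟨[(nat_lit 6), (nat_lit 6)], (nat_lit 19), (nat_lit 0), (nat_lit 0), (nat_lit 3)⟩))) (BT.node (nat_lit 10) (BT.leaf ⟨[(nat_lit 7), (nat_lit 7)], (nat_lit 20), (nat_lit 0), (nat_lit 0), (nat_lit 3)⟩) (BT.node (nat_lit 11) (BT.leaf ⟨[(nat_lit 2), (nat_lit 6), (nat_lit 1), (nat_lit 6)], (nat_lit 11), (nat_lit 3), (nat_lit 0), (nat_lit 3)⟩) (BT.leaf ⟨[(nat_lit 3), (nat_lit 7), (nat_lit 1), (nat_lit 7)], (nat_lit 15), (nat_lit 3), (nat_lit 0), (nat_lit 3)⟩))))) (BT.node (nat_lit 18) (BT.node (nat_lit 15) (BT.node (nat_lit 13) (BT.leaf ⟨[(nat_lit 1), (nat_lit 6), (nat_lit 2), (nat_lit 6)], (nat_lit 11), (nat_lit 1), (nat_lit 0), (nat_lit 3)⟩) (BT.node (nat_lit 14) (BT.leaf ⟨[(nat_lit 4), (nat_lit 7), (nat_lit 2), (nat_lit 7)], (nat_lit 16), (nat_lit 3), (nat_lit 0), (nat_lit 3)⟩) (BT.leaf ⟨[(nat_lit 4), (nat_lit 6), (nat_lit 3), (nat_lit 6)], (nat_lit 13), (nat_lit 3), (nat_lit 0), (nat_lit 3)⟩)))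 (BT.node (nat_lit 16) (BT.leaf ⟨[(nat_lit 1), (nat_lit 7), (nat_lit 3), (nat_lit 7)], (nat_lit 15), (nat_lit 1), (nat_lit 0), (nat_lit 3)⟩) (BT.node (nat_lit 17) (BT.leaf ⟨[(nat_lit 3), (nat_lit 6), (nat_lit 4), (nat_lit 6)], (nat_lit 13), (nat_lit 1), (nat_lit 0), (nat_lit 3)⟩) (BT.leaf ⟨[(nat_lit 2), (nat_lit 7), (nat_lit 4), (nat_lit 7)], (nat_lit 16), (nat_lit 1), (nat_lit 0), (nat_lit 3)⟩)))) (BT.node (nat_lit 21) (BT.node (nat_lit 19) (BT.leaf ⟨[(nat_lit 6), (nat_lit 7), (nat_lit 6), (nat_lit 7)], (nat_lit 21), (nat_lit 0), (nat_lit 0), (nat_lit 3)⟩) (BT.node (nat_lit 20) (BT.leaf ⟨[(nat_lit 5), (nat_lit 1), (nat_lit 2), (nat_lit 1), (nat_lit 2)], (nat_lit 5), (nat_lit 4), (nat_lit 0), (nat_lit 3)⟩) (BT.leaf ⟨[(nat_lit 1), (nat_lit 5), (nat_lit 2), (nat_lit 1), (nat_lit 2)], (nat_lit 34), (nat_lit 4), (nat_lit 0), (nat_lit 3)⟩))) (BT.node (nat_lit 23) (BT.node (nat_lit 22) (BT.leaf ⟨[(nat_lit 2), (nat_lit 1), (nat_lit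 2), (nat_lit 1), (nat_lit 5)], (nat_lit 34), (nat_lit 1), (nat_lit 0), (nat_lit 3)⟩) (BT.leaf ⟨[(nat_lit 5), (nat_lit 1), (nat_lit 3), (nat_lit 1), (nat_lit 3)], (nat_lit 6), (nat_lit 4), (nat_lit 0), (nat_lit 3)⟩)) (BT.node (nat_lit 24) (BT.leaf ⟨[(nat_lit 1), (nat_lit 5), (nat_lit 3), (nat_lit 1), (nat_lit 3)], (nat_lit 35), (nat_lit 4), (nat_lit 0), (nat_lit 3)⟩) (BT.leaf ⟨[(nat_lit 3), (nat_lit 1), (nat_lit 3), (nat_lit 1), (nat_lit 5)], (nat_lit 35), (nat_lit 1), (nat_lit 0), (nat_lit 3)⟩)))))) (BT.node (nat_lit 38) (BT.node (nat_lit 31) (BT.node (nat_lit 28) (BT.node (nat_lit 26) (BT.leaf ⟨[(nat_lit 5), (nat_lit 1), (nat_lit 4), (nat_lit 1), (nat_lit 4)], (nat_lit 7), (nat_lit 4), (nat_lit 0), (nat_lit 3)⟩) (BT.node (nat_lit 27) (BT.leaf ⟨[(nat_lit 1), (nat_lit 5), (nat_lit 4), (nat_lit 1), (nat_lit 4)], (nat_lit 36), (nat_lit 4), (nat_lit 0), (nat_lit 3)⟩) (BT.leaf ⟨[(nat_lit 4), (nat_lit 1), (nat_lit 4), (nat_lit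 1), (nat_lit 5)], (nat_lit 36), (nat_lit 1), (nat_lit 0), (nat_lit 3)⟩))) (BT.node (nat_lit 29) (BT.leaf ⟨[(nat_lit 5), (nat_lit 2), (nat_lit 3), (nat_lit 2), (nat_lit 3)], (nat_lit 8), (nat_lit 4), (nat_lit 0), (nat_lit 3)⟩) (BT.node (nat_lit 30) (BT.leaf ⟨[(nat_lit 2), (nat_lit 5), (nat_lit 3), (nat_lit 2), (nat_lit 3)], (nat_lit 37), (nat_lit 4), (nat_lit 0), (nat_lit 3)⟩) (BT.leaf ⟨[(nat_lit 3), (nat_lit 2), (nat_lit 3), (nat_lit 2), (nat_lit 5)], (nat_lit 37), (nat_lit 1), (nat_lit 0), (nat_lit 3)⟩)))) (BT.node (nat_lit 34) (BT.node (nat_lit 32) (BT.leaf ⟨[(nat_lit 5), (nat_lit 2), (nat_lit 4), (nat_lit 2), (nat_lit 4)], (nat_lit 9), (nat_lit 4), (nat_lit 0), (nat_lit 3)⟩) (BT.node (nat_lit 33) (BT.leaf ⟨[(nat_lit 2), (nat_lit 5), (nat_lit 4), (nat_lit 2), (nat_lit 4)], (nat_lit 38), (nat_lit 4), (nat_lit 0), (nat_lit 3)⟩) (BT.leaf ⟨[(nat_lit 4), (nat_lit 2), (nat_lit 4), (nat_lit 2), (nat_lit 5)], (nat_lit 38),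 (nat_lit 1), (nat_lit 0), (nat_lit 3)⟩))) (BT.node (nat_lit 36) (BT.node (nat_lit 35) (BT.leaf ⟨[(nat_lit 5), (nat_lit 3), (nat_lit 4), (nat_lit 3), (nat_lit 4)], (nat_lit 10), (nat_lit 4), (nat_lit 0), (nat_lit 3)⟩) (BT.leaf ⟨[(nat_lit 3), (nat_lit 5), (nat_lit 4), (nat_lit 3), (nat_lit 4)], (nat_lit 39), (nat_lit 4), (nat_lit 0), (nat_lit 3)⟩)) (BT.node (nat_lit 37) (BT.leaf ⟨[(nat_lit 4), (nat_lit 3), (nat_lit 4), (nat_lit 3), (nat_lit 5)], (nat_lit 39), (nat_lit 1), (nat_lit 0), (nat_lit 3)⟩) (BT.leaf ⟨[(nat_lit 2), (nat_lit 3), (nat_lit 5), (nat_lit 2), (nat_lit 3)], (nat_lit 8), (nat_lit 2), (nat_lit 0), (nat_lit 3)⟩))))) (BT.node (nat_lit 44) (BT.node (nat_lit 41) (BT.node (nat_lit 39) (BT.leaf ⟨[(nat_lit 2), (nat_lit 4), (nat_lit 5), (nat_lit 2), (nat_lit 4)], (nat_lit 9), (nat_lit 2), (nat_lit 0), (nat_lit 3)⟩) (BT.node (nat_lit 40) (BT.leaf ⟨[(nat_lit 3), (nat_lit 4), (nat_lit 5), (nat_lit 3), (nat_lit 4)],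 (nat_lit 10), (nat_lit 2), (nat_lit 0), (nat_lit 3)⟩) (BT.leaf ⟨[(nat_lit 1), (nat_lit 3), (nat_lit 5), (nat_lit 1), (nat_lit 3)], (nat_lit 6), (nat_lit 2), (nat_lit 0), (nat_lit 3)⟩))) (BT.node (nat_lit 42) (BT.leaf ⟨[(nat_lit 1), (nat_lit 3), (nat_lit 1), (nat_lit 3), (nat_lit 5)], (nat_lit 6), (nat_lit 0), (nat_lit 0), (nat_lit 3)⟩) (BT.node (nat_lit 43) (BT.leaf ⟨[(nat_lit 1), (nat_lit 4), (nat_lit 5), (nat_lit 1), (nat_lit 4)], (nat_lit 7), (nat_lit 2), (nat_lit 0), (nat_lit 3)⟩) (BT.leaf ⟨[(nat_lit 1), (nat_lit 4), (nat_lit 1), (nat_lit 4), (nat_lit 5)], (nat_lit 7), (nat_lit 0), (nat_lit 0), (nat_lit 3)⟩)))) (BT.node (nat_lit 47) (BT.node (nat_lit 45) (BT.leaf ⟨[(nat_lit 2), (nat_lit 4), (nat_lit 2), (nat_lit 4), (nat_lit 5)], (nat_lit 9), (nat_lit 0), (nat_lit 0), (nat_lit 3)⟩) (BT.node (nat_lit 46) (BT.leaf ⟨[(nat_lit 5), (nat_lit 2), (nat_lit 1), (nat_lit 2), (nat_lit 1)], (nat_lit 34), (nat_lit 0), (nat_lit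 0), (nat_lit 3)⟩) (BT.leaf ⟨[(nat_lit 5), (nat_lit 3), (nat_lit 2), (nat_lit 3), (nat_lit 2)], (nat_lit 37), (nat_lit 0), (nat_lit 0), (nat_lit 3)⟩))) (BT.node (nat_lit 49) (BT.node (nat_lit 48) (BT.leaf ⟨[(nat_lit 5), (nat_lit 4), (nat_lit 2), (nat_lit 4), (nat_lit 2)], (nat_lit 38), (nat_lit 0), (nat_lit 0), (nat_lit 3)⟩) (BT.leaf ⟨[(nat_lit 5), (nat_lit 3), (nat_lit 1), (nat_lit 3), (nat_lit 1)], (nat_lit 35), (nat_lit 0), (nat_lit 0), (nat_lit 3)⟩)) (BT.node (nat_lit 50) (BT.leaf ⟨[(nat_lit 5), (nat_lit 4), (nat_lit 3), (nat_lit 4), (nat_lit 3)], (nat_lit 39), (nat_lit 0), (nat_lit 0), (nat_lit 3)⟩) (BT.leaf ⟨[(nat_lit 5), (nat_lit 4), (nat_lit 1), (nat_lit 4), (nat_lit 1)], (nat_lit 36), (nat_lit 0), (nat_lit 0), (nat_lit 3)⟩)))))))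
noncomputable def eA0_hcs : List CW := []
noncomputable def eA0_H (x j : Nat) : Bx (Nat → Nat → Nat) := mkH eA0_L eA0_pb.1 eA0_e.get (lmap CW.w eA0_hcs) (nat_lit 128) (nat_lit 129) (nat_lit 8) (nat_lit 256) (nat_lit 16384) (nat_lit 16383) x (eA0_rots.get j)
noncomputable def eA0_F (x b : Nat) : Bool := blkOK eA0_H eA0_ch (nat_lit 129) (nat_lit 256) (nat_lit 64) (nat_lit 8) (nat_lit 255) (nat_lit 18) (nat_lit 262143) x b

theorem eA0_k0_0 : allFrom (eA0_F (nat_lit 0)) (nat_lit 0) (nat_lit 4) = true := by decide +kernel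
theorem eA0_k1_0 : allFrom (eA0_F (nat_lit 1)) (nat_lit 0) (nat_lit 4) = true := by decide +kernel
theorem eA0_k2_0 : allFrom (eA0_F (nat_lit 2)) (nat_lit 0) (nat_lit 4) = true := by decide +kernel
theorem eA0_k3_0 : allFrom (eA0_F (nat_lit 3)) (nat_lit 0) (nat_lit 4) = true := by decide +kernel
theorem eA0_k4_0 : allFrom (eA0_F (nat_lit 4)) (nat_lit 0) (nat_lit 4) = true := by decide +kernel
theorem eA0_k5_0 : allFrom (eA0_F (nat_lit 5)) (nat_lit 0) (nat_lit 4) = true := by decide +kernel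
theorem eA0_k6_0 : allFrom (eA0_F (nat_lit 6)) (nat_lit 0) (nat_lit 4) = true := by decide +kernel
theorem eA0_k7_0 : allFrom (eA0_F (nat_lit 7)) (nat_lit 0) (nat_lit 4) = true := by decide +kernel

theorem eA0_all : Cov eA0_F 4 8 0 := by
  have h := Cov.zero eA0_F 4
  have h := h.blk (b := 4) eA0_k0_0 rfl
  have h := h.next (y := 1) rfl rfl
  have h := h.blk (b := 4) eA0_k1_0 rfl
  have h := h.next (y := 2) rfl rfl
  have h := h.blk (b := 4) eA0_k2_0 rfl
  have h := h.next (y := 3) rfl rfl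
  have h := h.blk (b := 4) eA0_k3_0 rfl
  have h := h.next (y := 4) rfl rfl
  have h := h.blk (b := 4) eA0_k4_0 rfl
  have h := h.next (y := 5) rfl rfl
  have h := h.blk (b := 4) eA0_k5_0 rfl
  have h := h.next (y := 6) rfl rfl
  have h := h.blk (b := 4) eA0_k6_0 rfl
  have h := h.next (y := 7) rfl rfl
  have h := h.blk (b := 4) eA0_k7_0 rfl
  have h := h.next (y := 8) rfl rfl
  exact h

theorem eA0 : Enum RA0 [] (gensW 7) 128 :=
  ⟨eA0_cols, eA0_ch, eA0_L, eA0_H, eA0_pb.1, eA0_e.get, [(nat_lit 0), (nat_lit 1), (nat_lit 3), (nat_lit 5), (nat_lit 7), (nat_lit 9), (nat_lit 11), (nat_lit 13)], (nat_lit 127), (nat_lit 7), eA0_rots, eA0_hcs,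
    (nat_lit 129), (nat_lit 8), (nat_lit 256), (nat_lit 64), (nat_lit 16384), (nat_lit 16383), (nat_lit 8), (nat_lit 255), (nat_lit 18), (nat_lit 262143), (nat_lit 1), (nat_lit 4),
    fun _ _ => rfl, fun _ => rfl, fun _ _ => rfl, by decide +kernel, eA0_all.1⟩

theorem pA0 : TA0.Pres RA0 (gensW 7) := ⟨CT.ok_spec TA0_ok, lall_iff.1 TA0_rel, by decide +kernel,
  by decide +kernel, by decide +kernel, eA0.bound (ug_rels _) (bound_nil _)⟩

instance instTA0 : TA0.Grp := pA0.grp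

noncomputable def TA1_c0 : BT (Bx Nat) := (BT.node (nat_lit 1) (BT.leaf (Bx.mk (nat_lit 0xa54e1c485059ad6cde3c672b27ce5cbdc3254acc193c7d29c28308114c9cea4262d4291c3caa336290212c5c6a234484090c1c2840608080))) (BT.leaf (Bx.mk (nat_lit 0xfdffb77f1e7d7bf9f7a75e5cef5fc99766dbb73061cd9f76fb15f469e1c75eaab5ace3c56add47cfe54b62c264da1464496ad203c7aedd45))))
noncomputable def TA1_c1 : BT (Bx Nat) := (BT.node (nat_lit 1) (BT.leaf (Bx.mk (nat_lit 0xcf9b163b56d2232242ad6386ec571e38a13a74a74f8d1c639701048883085b3640e2430e1852d5809bb65eb82a53a550a02e586a23448001))) (BT.leaf (Bx.mk (nat_lit 0xefdb6eccb92fdefffae5dc3828d0972befc91266cc7efbdfa78f79f2f3e3a7574ee03160d1ac556ab8f050a74e8dfbb56b4c9ea193078fd9))))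
noncomputable def TA1_c3 : BT (Bx Nat) := (BT.node (nat_lit 1) (BT.leaf (Bx.mk (nat_lit 0xcb908904c9ec8cc788f1fa82eedc2c5d11aa34048874eca4508b67ce68d49c006b24c85cbc2a53a35ebc0e1893864054a81e38aa33600502))) (BT.leaf (Bx.mk (nat_lit 0xf1e776fcd9ff7fbf7ac57d1a6953f9f65ca890f973f5edfbe6eda6ccefd98b08f19cf5e90a0b3e1c55aa42830e0dbb0c98b76926bd55aa9c))))
noncomputable def TA1_c5 : BT (Bx Nat) := (BT.node (nat_lit 1) (BT.leaf (Bx.mk (nat_lit 0xbf794291e3865440870e04448c19b76ac8a9729e3d0e18e0480cdb379b302a52a358318f18dc504c848876e8d3902b08904e98ea4004c583))) (BT.leaf (Bx.mk (nat_lit 0xf7eb8f0fffb367c99756bad57efca54e851e9d6141f1e7b779f39ab47efa4c85eb96c487cf938ddbf66dc788f9e56aaedc2e58a58afa7423))))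
noncomputable def TA1_c7 : BT (Bx Nat) := (BT.node (nat_lit 1) (BT.leaf (Bx.mk (nat_lit 0x56aae5dc184d12af6078e1764890ad545547efa449993429d2a361c40e192038ae4488850518280e18b06ad110166b4c983e792803850604))) (BT.leaf (Bx.mk (nat_lit 0xf9f7f7fe3c37eedbb31e2b56fdfaf3e3bf69f3a347a54e851ebd1d3b952de3de5cd9366ebd72ccd9f265d7a9327bd7d429d1a4da0425cb13))))
noncomputable def TA1_c9 : BT (Bx Nat) := (BT.node (nat_lit 1) (BT.leaf (Bx.mk (nat_lit 0x7cfde3d74ed9ad6cdda3572b18315cbdc3254ad4294c9c21c28310213c7c1a4262cc192c5c12336288111c3c0a234484090c1c0253a54685))) (BT.leaf (Bx.mk (nat_lit 0xfdffe7df5efc79eddfa75e5cf871ddbf66dd5af469cd9f265c58f061bd7ee5db56ea57b156b59a54e8519d3e64d952e4498d1e0438906145))))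
noncomputable def TA1_c11 : BT (Bx Nat) := (BT.node (nat_lit 1) (BT.leaf (Bx.mk (nat_lit 0x2243367188b0dbc99459ac15af5f144ad55122295308953cd8eee8510674fcc84d654b0454bc682bdf3f02347ba68b952b00143a63c58706))) (BT.leaf (Bx.mk (nat_lit 0xebd35eac78aedcb15ff7fa9667ce9322243f9f60457af1bb6f5ed9b962c3c795ae39f6eeb197252a10a0e1c4e24326376f288f4ecda4cde8))))
noncomputable def TA1_c12 : BT (Bx Nat) := (BT.node (nat_lit 1) (BT.leaf (Bx.mk (nat_lit 0x20473e6443305acb90d0bc356fde242add610269d24a1134c8cea8d03a0cf4d82d25ca2a08b4784b9fbe1a0473b6abd5aa0a003273e5c787))) (BT.leaf (Bx.mk (nat_lit 0xe9d756bc58ee5daf63ffeb35274f91261c4fbf22c078f5b37f7e9cb360c7cf870b7977ecc967350a5021e3c121c30677ee465346dd86c9e9))))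
noncomputable def TA1_c13 : BT (Bx Nat) := (BT.node (nat_lit 1) (BT.leaf (Bx.mk (nat_lit 0x1c3c622cf9b1dd166b2e4c560512bf7ae570c1c225a7494cf92f419da3410ce88dc1159728cc886c408d7ef88bc6cc000556a84a84060808))) (BT.leaf (Bx.mk (nat_lit 0xe5cf469c186d5bab5aa59fffa64d8d1e0c28117efc74eda3566e7dfa5cbd6b8f3e3aac65dfb744c9cf1f38938f02c5ca23dfbb59337b766a))))
noncomputable def TA1_c14 : BT (Bx Nat) := (BT.node (nat_lit 1) (BT.leaf (Bx.mk (nat_lit 0x1e3910ccd9f15c342f265c75c90abd7eed80e19284a54d44e90f0e83a14504f86d8a82952cc4988c06817cfc83d6ec428054ac4294264889))) (BT.leaf (Bx.mk (nat_lit 0xe7cb4e8c382ddaad56cd4fdfe6cc8f1a1418b03e7d76e9ab472cfd7b5eb9c2df1e7a3259dbbf54e98f9e48738712e59194ddbf51b27b36eb))))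
noncomputable def TA1_w : BT (Bx Nat) := (BT.node (nat_lit 1) (BT.leaf (Bx.mk (nat_lit 0xeb1000db1000e71000d71000c71000b71000571000371000e51000d51000c51000b51000751000351000e31000d31000c31000b310007310005310000eb0000db0000e70000d70000c70000b70000970000570000370000170000e50000d50000c50000b50000950000750000350000150000e30000d30000c30000b30000930000730000530000130000e10000d10000c10000b100009100007100005100003100000e00000d00000c00000b000009000007000005000003000001000000))) (BT.leaf (Bx.mk (nat_lit 0xeb7531db75310eb7530db7530eb7510db7510eb7310db7310eb5310db5310e75310d75310c75310b753100eb7500db7500eb7300db7300eb5300db5300e75300d75300c75300b75300eb7100db7100eb5100db5100e75100d75100c75100b75100eb3100db3100e73100d73100c73100b73100573100e53100d53100c53100b531007531000eb7000db7000eb5000db5000e75000d75000c75000b75000eb3000db3000e73000d73000c73000b73000573000e53000d53000c53000b53000753))))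
noncomputable def TA1_cols : List (BT (Bx Nat)) := [TA1_c0, TA1_c1, TA1_c1, TA1_c3, TA1_c3, TA1_c5, TA1_c5, TA1_c7, TA1_c7, TA1_c9, TA1_c9, TA1_c11, TA1_c12, TA1_c13, TA1_c14]
noncomputable def TA1_ch (x j : Nat) : Bx Nat := chk TA1_cols x j
noncomputable def TA1_wc (_ j : Nat) : Bx Nat := TA1_w.get j
noncomputable def TA1 : CT := ⟨(nat_lit 128), (nat_lit 7), (nat_lit 127), TA1_ch, (nat_lit 24), (nat_lit 16777215), TA1_wc, (nat_lit 32766)⟩
theorem TA1_ok : TA1.ok = true := by decide +kernel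
theorem TA1_rel : lall TA1.relOK RA1 = true := by decide +kernel
noncomputable def eA1_c0 : BT (Bx Nat) := (BT.leaf (Bx.mk (nat_lit 0x0)))
noncomputable def eA1_c1 : BT (Bx Nat) := (BT.leaf (Bx.mk (nat_lit 0x50478a08ef411ba8236d0466a08cb41182822fda080b3efee1175c22f38462708c34114a8228d044ca0897681facfbec0449808950113a0226d0440a087f681f2cfbdc043d8087d065d20d39da07ab3ef307dd6103b4043b8087901107101961f318086b010da02235042ca0857681cacfb8b842970855265aa4d34da070b3edf27dae5036384277085130d57100d61f197083ee108255ad5a068b3ecf27d8e50324995b934b94ac96959262012c3e232655a4d2bd431da503961166c22c61a10c321f50c56a10a5a054b3ea707d3e1028419478349101036421d48439d080b8802b0f84c19428348701032421a48433d080961116c22261a08c320f0102e42174842dd0807610e2c21bd8430b085f4681a55934a81e94a2d6108ac210d8418b082f2103b8091f011be0227a1007808100000)))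
noncomputable def eA1_c2 : BT (Bx Nat) := (BT.leaf (Bx.mk (nat_lit 0x3a379748f508dbe123842367848d0c15fd82c050560a0abf8916711ac4166982ad4e8d4dd22a3857d70afd4153282a5e2445c4688e15cdc2ba3857b70af941502829fe2438c466f0153a02a6da478b46ef890cb1198c054880a8f2c4eac2bb5857580a870150aa21a3057160ae5414b28295e2422c46432598a4ab0da46eb46db8906b118cc965c92ab74c496c2b65856b92caf2555aa20eda466b46cb8904b1188b852770a510156b4286d8564b0ac6e147dc29048555d0a196157ac2aeb851770a314c48e970dda452b46a38902b1184c163b82a790145642a36850590a5d61542c2a7c163582a6d0145242a0e850490a5b6152ac2a4c162f82a614541a58934ae1eb0a1d614fac29ee1508c2c0f89c4f809cf0133d0a05614aac294d8510b0a1f2145b80927011cd0a03c042f808180000)))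
noncomputable def eA1_c3 : BT (Bx Nat) := (BT.leaf (Bx.mk (nat_lit 0x3987c72ef7061ca0bb8b068060cff05d9e0c3441765830cd061ae0bb662257c42ace19f9c33eb9753730a8e5d45cc293867570ced8890f10a13867970cf4e19ddc33c4065080c9f888db109ad0640a0c7f0192a0324e2230c425fa18ba0322c0644b0ce9619ce5a1cb066f60ce0c19b583374986492ec788883108fd062ca0c572617a4baee2218c422fa18564c2cc9758b0cd5619a69a1259760b30bee18a5c31562210c421fa1836032ab862170c456198ac330d3423a0c26e1865c30d5865cb0cb7c056b4305d974cb3097060f60b9f62208c420f018774302c864190c69060de0b9c5864eb0c9b4881a5a1358616b0c1d060c60b9958648b0c8f8c07380a368603b606785c2b0c04d863cb0c778a86f809d68602e025b6184ac308d8628b0c4f2187b8092e8601e0229c0433808200000)))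
noncomputable def eA1_c4 : BT (Bx Nat) := (BT.leaf (Bx.mk (nat_lit 0x3077d60efce71fdcdc041b72838e306dc20e37c1b6e838dae1d91c3b1b875b70eb8e1df1c3bdb877a70ef2e1de1c3bbc075080e9f01d1e03a439c53736a8e7145cda941c76836eb01cee039e39c4b7369901cf6039f41e7383ae941cce039bc0738c3a61878bf4396b076760ed0c1d9583b349c6c936d6e1c9dc3943075f60ec0e1ca5c39549e6993ad541c71c390b8722c3a318785f438a5072ca0e57271764daf49e6193ac541c6e8389c9c58936b3874430f07e870cb6cb586c4b0e08d8757b0eada1c2f80aad9b40b387f071260da541e4d83a9d4741ac38f58716b0e1d071120da2e1d08c3c0f8d89743825b646b6c7586c2b0e04d8743b0e858cc934381f0141b667361ccac398d8736b0e6b8b48f438170134e025d61c6ac38cd8720b0e3f21c9b4380f011de022bc0437808280000)))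
noncomputable def eA1_c5 : BT (Bx Nat) := (BT.leaf (Bx.mk (nat_lit 0x5887fc2501621f7093f5887bc24f9621e7093d58877c24f1621d7093b58873c22e9621c709395886fc24e1621b709375886bc24d9621a708b558867c24d162197093358863c24c96218708b15885fc24c162177092f5885bc22b962156c42c61259b10ad8455f1aad58853c24a96214709295884fc24a16213708a75884bc249962127092558847c229162106c42261245b10858450f1aa35883fc2481620f7091f5883bc2279620d2c41758837c2471620d7089b6353ab105b620c709195882fc22618c8e71799d882bc2459620a7091558827c2251a2016c40ed8815b101b6208709115881fc2241a20131a92d8814b101962067090d58817c2231a200f191262f1cb10176204709095880fc2221a200b1611e291bc4c2762027090558807c2211a200780937011ee022dc043b808300000)))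
noncomputable def eA1_c6 : BT (Bx Nat) := (BT.leaf (Bx.mk (nat_lit 0x23f76272ea229b0c53588a64314c682978852ea0a59214b06e5fcc6c068a55a14b4cfd411ca79b94a582926e51560a210a7d214fda290685231b93e5807a6e4e1601b90a7b214f9a28d2851d3413247262629e4c53d68a2ea1473635d0c53b98a78d145b428cf80b9b0a2a41452c28890510ab97151ae5a28768512b0a1a41432835bd1cb868a15a1449635a906b6a396ed14294287380b4b0a12414228359d1cb468a0da14476358ac6ae20d65472cda2832850df0161b1aaeae57d46b068a0ba1427c056f80ab4370aa1412a294d452a68a05b144d834a2c6a758d48b1a78a2945452968a04b143d8348380a6d8d43b1a6ca292d452668a03b142d8346380a3f0142b1a60a28fd452068a02b141d83443809df0135e025eee4adc69668a01b140d834238093f011fe022fc043f808380000)))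
noncomputable def eA1_c7 : BT (Bx Nat) := (BT.leaf (Bx.mk (nat_lit 0x10975212ec639acdf3618e6337cc88f975072f23e5841cb26260044bfd095ad12aa8253d04a8189493129462510c4a293e7e476fb4251b44a09893d3127c624dcc49c13e7c476f7424eb449a2093141264aede8df3cd0939d125d639cd5d3c1be77a1267a24b780ba33e2961c54cf885871128972312e342497448eb3e1961c34425c104b7d0924d122b639a484b72096da1239a245380b533e1161c24425a104b3d0923d121b63986c72d90966412cb4246f448670162b1caca2580c4afd0913d1217c057380abb090961214eed515f29d8926d120b8389ec726d8e47b1c76ee9495f28d891ed12098387f80a758e42b1c6aef5315f25d8916d12078385f80a470143b1c5eef1015f1fd890ed12058383f809e70136e0260e24b2dc15d8906d12038381f809470120e0231c0443808400000)))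
noncomputable def eA1_c8 : BT (Bx Nat) := (BT.leaf (Bx.mk (nat_lit 0x68c73a26e9a31a689b568c61a26c5a316e89ae68c56a26afa3156862d48c80e02ffa313689a768c47a2691a310a89a1e8c41a188d231fb80bee8c3ba2679a30d6899b68c34a1875231f380bde8c2fa2661a30ba861cc8c7ae02f363ddb4616d0c33918f1c05df80bae8c27a2651a307e899068c1da184b231cb80b8e8c17a2631a3056861248c70e02df63db3460a50c1c918ddc05b780b5e8c0fa2621a30368611c8c68e02cf63d92c7af68c0ca18372319b80b2f0163b1eb3a302e8609c8c60e02bfc057780ac68c07a2611a3016c61348c54e02a783caac7a858f4ab1e7da3012c60f48c52e02a383c8b80a7d8f45b1e71a300ec60b48c4ce029783c6b80a4f0144b1e65a300ac60748c40e027f83c4b809ef0137e0263a3006c60348c2ce025783c2b8094f0121e0233c0447808480000)))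
noncomputable def eA1_c9 : BT (Bx Nat) := (BT.leaf (Bx.mk (nat_lit 0x51474d16e7451ab45b4d1462d16c34517345add1457d16ad42d6b45aac8b7fe03014513b45a6d1448d168f4510f45a150b46d168322df780bf5143cd1677450db459ad0b3ad166922def80be51430d165f42ce7459748b79e02f5641d68599e8b2d916efc05e380bb51428d164f45083458fd0b25d163b22dc780b951418d162f42c93458ac8b6fe02e1641ae858e68b14916dbc05bb80b651410d161f42c8f4586c8b67e02d16418ec82ed0b1bd161922d9780b370164b20b142c4f4585c8b5fe02c1c057b80acd1408d160f62c9b4582c8b53e02a9840a6c827d9049b207b62c7b458248b51e02a58408780a859044b206f62c5b4581c8b4be02998406780a570145b206362c3b458148b3fe028184047809f70138e026562c1b4580c8b2be025984027809570122e0235c044b808500000)))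
noncomputable def eA1_p : BT (Bx Nat) := (BT.leaf (Bx.mk (nat_lit 0x19cc9ce6456926b4915849ac2455b26ad915589aac455526aa915547aaa344d26269111c988e4442262111104988244411e208d0ec98764435261a910d0986844341e1a0d0bc985e442e2617110b8785c342e0e16930b4885a3c2d1a1688c9c964e431f258f90c74963a431d1d8e8cc5c962e4315258a90c54762a33150d8a12c5086283b14198a08c3c961e430d258690c34761a330d0d8684c309618430c1d860cc304618130b258590c2c7616330b11858681c940e4205250290814740a3205150286814240a0a042502108107408320415020881024080a0325019080c7406320315018880c34060a02250110808740432021501088083404110124809040472023101148088404320211010400000000)))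
noncomputable def eA1_e : BT Nat := BT.leaf (nat_lit 0)
noncomputable def eA1_cols : List (BT (Bx Nat)) := [eA1_c0, eA1_c1, eA1_c2, eA1_c3, eA1_c4, eA1_c5, eA1_c6, eA1_c7, eA1_c8, eA1_c9]
noncomputable def eA1_ch (x j : Nat) : Bx Nat := chunkG eA1_cols (nat_lit 1) x j
noncomputable def eA1_L (x : Nat) : Bx (Nat → Nat) := lookG eA1_ch (nat_lit 8) (nat_lit 255) (nat_lit 19) (nat_lit 524287) x
noncomputable def eA1_pc (_ j : Nat) : Bx Nat := eA1_p.get j
noncomputable def eA1_pb : Bx (Nat → Nat) := lookG eA1_pc (nat_lit 8) (nat_lit 255) (nat_lit 17) (nat_lit 131071) (nat_lit 0)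
noncomputable def eA1_rots : BT CW := (BT.node (nat_lit 34) (BT.node (nat_lit 17) (BT.node (nat_lit 8) (BT.node (nat_lit 4) (BT.node (nat_lit 2) (BT.node (nat_lit 1) (BT.leaf ⟨[], (nat_lit 1000000), (nat_lit 0), (nat_lit 0), (nat_lit 0)⟩) (BT.leaf ⟨[], (nat_lit 1000000), (nat_lit 0), (nat_lit 0), (nat_lit 1)⟩)) (BT.node (nat_lit 3) (BT.leaf ⟨[], (nat_lit 1000000), (nat_lit 0), (nat_lit 0), (nat_lit 2)⟩) (BT.leaf ⟨[(nat_lit 1), (nat_lit 1)], (nat_lit 0), (nat_lit 0), (nat_lit 0), (nat_lit 3)⟩))) (BT.node (nat_lit 6) (BT.node (nat_lit 5) (BT.leaf ⟨[(nat_lit 2), (nat_lit 2)], (nat_lit 1), (nat_lit 0), (nat_lit 0), (nat_lit 3)⟩) (BT.leaf ⟨[(nat_lit 3), (nat_lit 3)], (nat_lit 2), (nat_lit 0), (nat_lit 0), (nat_lit 3)⟩)) (BT.node (nat_lit 7) (BT.leaf ⟨[(nat_lit 4), (nat_lit 4)], (nat_lit 3), (nat_lit 0), (nat_lit 0), (nat_lit 3)⟩) (BT.leaf ⟨[(nat_lit 5), (nat_lit 5)], (nat_lit 4), (nat_lit 0), (nat_lit 0), (nat_lit 3)⟩))))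 (BT.node (nat_lit 12) (BT.node (nat_lit 10) (BT.node (nat_lit 9) (BT.leaf ⟨[(nat_lit 7), (nat_lit 6)], (nat_lit 23), (nat_lit 1), (nat_lit 0), (nat_lit 3)⟩) (BT.leaf ⟨[(nat_lit 6), (nat_lit 7)], (nat_lit 23), (nat_lit 0), (nat_lit 0), (nat_lit 3)⟩)) (BT.node (nat_lit 11) (BT.leaf ⟨[(nat_lit 9), (nat_lit 8)], (nat_lit 22), (nat_lit 1), (nat_lit 0), (nat_lit 3)⟩) (BT.leaf ⟨[(nat_lit 8), (nat_lit 9)], (nat_lit 22), (nat_lit 0), (nat_lit 0), (nat_lit 3)⟩))) (BT.node (nat_lit 14) (BT.node (nat_lit 13) (BT.leaf ⟨[(nat_lit 6), (nat_lit 6), (nat_lit 5)], (nat_lit 19), (nat_lit 0), (nat_lit 0), (nat_lit 3)⟩) (BT.leaf ⟨[(nat_lit 7), (nat_lit 7), (nat_lit 5)], (nat_lit 48), (nat_lit 1), (nat_lit 0), (nat_lit 3)⟩)) (BT.node (nat_lit 15) (BT.leaf ⟨[(nat_lit 8), (nat_lit 8), (nat_lit 5)], (nat_lit 20), (nat_lit 0), (nat_lit 0), (nat_lit 3)⟩) (BT.node (nat_lit 16) (BT.leaf ⟨[(nat_lit 9), (nat_lit 9), (nat_lit 5)], (nat_lit 49), (nat_lit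 1), (nat_lit 0), (nat_lit 3)⟩) (BT.leaf ⟨[(nat_lit 5), (nat_lit 6), (nat_lit 6)], (nat_lit 19), (nat_lit 2), (nat_lit 0), (nat_lit 3)⟩)))))) (BT.node (nat_lit 25) (BT.node (nat_lit 21) (BT.node (nat_lit 19) (BT.node (nat_lit 18) (BT.leaf ⟨[(nat_lit 5), (nat_lit 8), (nat_lit 8)], (nat_lit 20), (nat_lit 2), (nat_lit 0), (nat_lit 3)⟩) (BT.leaf ⟨[(nat_lit 8), (nat_lit 5), (nat_lit 8)], (nat_lit 20), (nat_lit 1), (nat_lit 0), (nat_lit 3)⟩)) (BT.node (nat_lit 20) (BT.leaf ⟨[(nat_lit 9), (nat_lit 5), (nat_lit 9)], (nat_lit 49), (nat_lit 2), (nat_lit 0), (nat_lit 3)⟩) (BT.leaf ⟨[(nat_lit 2), (nat_lit 6), (nat_lit 1), (nat_lit 7)], (nat_lit 11), (nat_lit 3), (nat_lit 0), (nat_lit 3)⟩))) (BT.node (nat_lit 23) (BT.node (nat_lit 22) (BT.leaf ⟨[(nat_lit 2), (nat_lit 7), (nat_lit 1), (nat_lit 6)], (nat_lit 12), (nat_lit 1), (nat_lit 0), (nat_lit 3)⟩) (BT.leaf ⟨[(nat_lit 3), (nat_lit 8), (nat_lit 1), (nat_lit 9)], (nat_lit 15), (nat_lit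 3), (nat_lit 0), (nat_lit 3)⟩)) (BT.node (nat_lit 24) (BT.leaf ⟨[(nat_lit 3), (nat_lit 9), (nat_lit 1), (nat_lit 8)], (nat_lit 17), (nat_lit 1), (nat_lit 0), (nat_lit 3)⟩) (BT.leaf ⟨[(nat_lit 1), (nat_lit 7), (nat_lit 2), (nat_lit 6)], (nat_lit 11), (nat_lit 1), (nat_lit 0), (nat_lit 3)⟩)))) (BT.node (nat_lit 29) (BT.node (nat_lit 27) (BT.node (nat_lit 26) (BT.leaf ⟨[(nat_lit 1), (nat_lit 6), (nat_lit 2), (nat_lit 7)], (nat_lit 12), (nat_lit 3), (nat_lit 0), (nat_lit 3)⟩) (BT.leaf ⟨[(nat_lit 4), (nat_lit 8), (nat_lit 2), (nat_lit 9)], (nat_lit 16), (nat_lit 3), (nat_lit 0), (nat_lit 3)⟩)) (BT.node (nat_lit 28) (BT.leaf ⟨[(nat_lit 4), (nat_lit 9), (nat_lit 2), (nat_lit 8)], (nat_lit 18), (nat_lit 1), (nat_lit 0), (nat_lit 3)⟩) (BT.leaf ⟨[(nat_lit 4), (nat_lit 6), (nat_lit 3), (nat_lit 7)], (nat_lit 13), (nat_lit 3), (nat_lit 0), (nat_lit 3)⟩))) (BT.node (nat_lit 31) (BT.node (nat_lit 30) (BT.leaf ⟨[(nat_lit 4), (nat_lit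 7), (nat_lit 3), (nat_lit 6)], (nat_lit 14), (nat_lit 1), (nat_lit 0), (nat_lit 3)⟩) (BT.leaf ⟨[(nat_lit 1), (nat_lit 9), (nat_lit 3), (nat_lit 8)], (nat_lit 15), (nat_lit 1), (nat_lit 0), (nat_lit 3)⟩)) (BT.node (nat_lit 32) (BT.leaf ⟨[(nat_lit 1), (nat_lit 8), (nat_lit 3), (nat_lit 9)], (nat_lit 17), (nat_lit 3), (nat_lit 0), (nat_lit 3)⟩) (BT.node (nat_lit 33) (BT.leaf ⟨[(nat_lit 3), (nat_lit 7), (nat_lit 4), (nat_lit 6)], (nat_lit 13), (nat_lit 1), (nat_lit 0), (nat_lit 3)⟩) (BT.leaf ⟨[(nat_lit 3), (nat_lit 6), (nat_lit 4), (nat_lit 7)], (nat_lit 14), (nat_lit 3), (nat_lit 0), (nat_lit 3)⟩))))))) (BT.node (nat_lit 51) (BT.node (nat_lit 42) (BT.node (nat_lit 38) (BT.node (nat_lit 36) (BT.node (nat_lit 35) (BT.leaf ⟨[(nat_lit 2), (nat_lit 9), (nat_lit 4), (nat_lit 8)], (nat_lit 16), (nat_lit 1), (nat_lit 0), (nat_lit 3)⟩) (BT.leaf ⟨[(nat_lit 2), (nat_lit 8), (nat_lit 4), (nat_lit 9)], (nat_lit 18), (nat_lit 3), (nat_lit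 0), (nat_lit 3)⟩)) (BT.node (nat_lit 37) (BT.leaf ⟨[(nat_lit 1), (nat_lit 2), (nat_lit 5), (nat_lit 1), (nat_lit 2)], (nat_lit 5), (nat_lit 2), (nat_lit 0), (nat_lit 3)⟩) (BT.leaf ⟨[(nat_lit 5), (nat_lit 1), (nat_lit 2), (nat_lit 1), (nat_lit 2)], (nat_lit 5), (nat_lit 4), (nat_lit 0), (nat_lit 3)⟩))) (BT.node (nat_lit 40) (BT.node (nat_lit 39) (BT.leaf ⟨[(nat_lit 2), (nat_lit 1), (nat_lit 2), (nat_lit 1), (nat_lit 5)], (nat_lit 34), (nat_lit 1), (nat_lit 0), (nat_lit 3)⟩) (BT.leaf ⟨[(nat_lit 1), (nat_lit 3), (nat_lit 5), (nat_lit 1), (nat_lit 3)], (nat_lit 6), (nat_lit 2), (nat_lit 0), (nat_lit 3)⟩)) (BT.node (nat_lit 41) (BT.leaf ⟨[(nat_lit 5), (nat_lit 1), (nat_lit 3), (nat_lit 1), (nat_lit 3)], (nat_lit 6), (nat_lit 4), (nat_lit 0), (nat_lit 3)⟩) (BT.leaf ⟨[(nat_lit 3), (nat_lit 1), (nat_lit 3), (nat_lit 1), (nat_lit 5)], (nat_lit 35), (nat_lit 1), (nat_lit 0), (nat_lit 3)⟩)))) (BT.node (nat_lit 46) (BT.node (nat_lit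 44) (BT.node (nat_lit 43) (BT.leaf ⟨[(nat_lit 1), (nat_lit 4), (nat_lit 5), (nat_lit 1), (nat_lit 4)], (nat_lit 7), (nat_lit 2), (nat_lit 0), (nat_lit 3)⟩) (BT.leaf ⟨[(nat_lit 5), (nat_lit 1), (nat_lit 4), (nat_lit 1), (nat_lit 4)], (nat_lit 7), (nat_lit 4), (nat_lit 0), (nat_lit 3)⟩)) (BT.node (nat_lit 45) (BT.leaf ⟨[(nat_lit 4), (nat_lit 1), (nat_lit 4), (nat_lit 1), (nat_lit 5)], (nat_lit 36), (nat_lit 1), (nat_lit 0), (nat_lit 3)⟩) (BT.leaf ⟨[(nat_lit 2), (nat_lit 3), (nat_lit 5), (nat_lit 2), (nat_lit 3)], (nat_lit 8), (nat_lit 2), (nat_lit 0), (nat_lit 3)⟩))) (BT.node (nat_lit 48) (BT.node (nat_lit 47) (BT.leaf ⟨[(nat_lit 5), (nat_lit 2), (nat_lit 3), (nat_lit 2), (nat_lit 3)], (nat_lit 8), (nat_lit 4), (nat_lit 0), (nat_lit 3)⟩) (BT.leaf ⟨[(nat_lit 3), (nat_lit 2), (nat_lit 3), (nat_lit 2), (nat_lit 5)], (nat_lit 37), (nat_lit 1), (nat_lit 0), (nat_lit 3)⟩)) (BT.node (nat_lit 49) (BT.leaf ⟨[(nat_lit 2), (nat_lit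 4), (nat_lit 5), (nat_lit 2), (nat_lit 4)], (nat_lit 9), (nat_lit 2), (nat_lit 0), (nat_lit 3)⟩) (BT.node (nat_lit 50) (BT.leaf ⟨[(nat_lit 5), (nat_lit 2), (nat_lit 4), (nat_lit 2), (nat_lit 4)], (nat_lit 9), (nat_lit 4), (nat_lit 0), (nat_lit 3)⟩) (BT.leaf ⟨[(nat_lit 4), (nat_lit 2), (nat_lit 4), (nat_lit 2), (nat_lit 5)], (nat_lit 38), (nat_lit 1), (nat_lit 0), (nat_lit 3)⟩)))))) (BT.node (nat_lit 59) (BT.node (nat_lit 55) (BT.node (nat_lit 53) (BT.node (nat_lit 52) (BT.leaf ⟨[(nat_lit 3), (nat_lit 4), (nat_lit 5), (nat_lit 3), (nat_lit 4)], (nat_lit 10), (nat_lit 2), (nat_lit 0), (nat_lit 3)⟩) (BT.leaf ⟨[(nat_lit 5), (nat_lit 3), (nat_lit 4), (nat_lit 3), (nat_lit 4)], (nat_lit 10), (nat_lit 4), (nat_lit 0), (nat_lit 3)⟩)) (BT.node (nat_lit 54) (BT.leaf ⟨[(nat_lit 4), (nat_lit 3), (nat_lit 4), (nat_lit 3), (nat_lit 5)], (nat_lit 39), (nat_lit 1), (nat_lit 0), (nat_lit 3)⟩) (BT.leaf ⟨[(nat_lit 6), (nat_lit 8), (nat_lit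 5), (nat_lit 6), (nat_lit 8)], (nat_lit 21), (nat_lit 2), (nat_lit 0), (nat_lit 3)⟩))) (BT.node (nat_lit 57) (BT.node (nat_lit 56) (BT.leaf ⟨[(nat_lit 7), (nat_lit 9), (nat_lit 7), (nat_lit 5), (nat_lit 9)], (nat_lit 50), (nat_lit 2), (nat_lit 0), (nat_lit 3)⟩) (BT.leaf ⟨[(nat_lit 6), (nat_lit 5), (nat_lit 6)], (nat_lit 19), (nat_lit 1), (nat_lit 0), (nat_lit 3)⟩)) (BT.node (nat_lit 58) (BT.leaf ⟨[(nat_lit 7), (nat_lit 2), (nat_lit 6), (nat_lit 1)], (nat_lit 11), (nat_lit 2), (nat_lit 0), (nat_lit 3)⟩) (BT.leaf ⟨[(nat_lit 7), (nat_lit 1), (nat_lit 6), (nat_lit 2)], (nat_lit 12), (nat_lit 2), (nat_lit 0), (nat_lit 3)⟩)))) (BT.node (nat_lit 63) (BT.node (nat_lit 61) (BT.node (nat_lit 60) (BT.leaf ⟨[(nat_lit 7), (nat_lit 4), (nat_lit 6), (nat_lit 3)], (nat_lit 13), (nat_lit 2), (nat_lit 0), (nat_lit 3)⟩) (BT.leaf ⟨[(nat_lit 7), (nat_lit 3), (nat_lit 6), (nat_lit 4)], (nat_lit 14), (nat_lit 2), (nat_lit 0), (nat_lit 3)⟩))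 (BT.node (nat_lit 62) (BT.leaf ⟨[(nat_lit 7), (nat_lit 5), (nat_lit 7)], (nat_lit 48), (nat_lit 2), (nat_lit 0), (nat_lit 3)⟩) (BT.leaf ⟨[(nat_lit 6), (nat_lit 2), (nat_lit 7), (nat_lit 1)], (nat_lit 12), (nat_lit 0), (nat_lit 0), (nat_lit 3)⟩))) (BT.node (nat_lit 65) (BT.node (nat_lit 64) (BT.leaf ⟨[(nat_lit 6), (nat_lit 3), (nat_lit 7), (nat_lit 4)], (nat_lit 13), (nat_lit 0), (nat_lit 0), (nat_lit 3)⟩) (BT.leaf ⟨[(nat_lit 6), (nat_lit 4), (nat_lit 7), (nat_lit 3)], (nat_lit 14), (nat_lit 0), (nat_lit 0), (nat_lit 3)⟩)) (BT.node (nat_lit 66) (BT.leaf ⟨[(nat_lit 1), (nat_lit 3), (nat_lit 1), (nat_lit 3), (nat_lit 5)], (nat_lit 6), (nat_lit 0), (nat_lit 0), (nat_lit 3)⟩) (BT.node (nat_lit 67) (BT.leaf ⟨[(nat_lit 1), (nat_lit 4), (nat_lit 1), (nat_lit 4), (nat_lit 5)], (nat_lit 7), (nat_lit 0), (nat_lit 0), (nat_lit 3)⟩) (BT.leaf ⟨[(nat_lit 2), (nat_lit 4), (nat_lit 2), (nat_lit 4), (nat_lit 5)], (nat_lit 9), (nat_lit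 0), (nat_lit 0), (nat_lit 3)⟩))))))))
noncomputable def eA1_hcs : List CW := []
noncomputable def eA1_H (x j : Nat) : Bx (Nat → Nat → Nat) := mkH eA1_L eA1_pb.1 eA1_e.get (lmap CW.w eA1_hcs) (nat_lit 128) (nat_lit 129) (nat_lit 10) (nat_lit 256) (nat_lit 32768) (nat_lit 16383) x (eA1_rots.get j)
noncomputable def eA1_F (x b : Nat) : Bool := blkOK eA1_H eA1_ch (nat_lit 129) (nat_lit 256) (nat_lit 128) (nat_lit 8) (nat_lit 255) (nat_lit 19) (nat_lit 524287) x b

theorem eA1_k0_0 : allFrom (eA1_F (nat_lit 0)) (nat_lit 0) (nat_lit 4) = true := by decide +kernel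
theorem eA1_k1_0 : allFrom (eA1_F (nat_lit 1)) (nat_lit 0) (nat_lit 4) = true := by decide +kernel
theorem eA1_k2_0 : allFrom (eA1_F (nat_lit 2)) (nat_lit 0) (nat_lit 4) = true := by decide +kernel
theorem eA1_k3_0 : allFrom (eA1_F (nat_lit 3)) (nat_lit 0) (nat_lit 4) = true := by decide +kernel
theorem eA1_k4_0 : allFrom (eA1_F (nat_lit 4)) (nat_lit 0) (nat_lit 4) = true := by decide +kernel
theorem eA1_k5_0 : allFrom (eA1_F (nat_lit 5)) (nat_lit 0) (nat_lit 4) = true := by decide +kernel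
theorem eA1_k6_0 : allFrom (eA1_F (nat_lit 6)) (nat_lit 0) (nat_lit 4) = true := by decide +kernel
theorem eA1_k7_0 : allFrom (eA1_F (nat_lit 7)) (nat_lit 0) (nat_lit 4) = true := by decide +kernel
theorem eA1_k8_0 : allFrom (eA1_F (nat_lit 8)) (nat_lit 0) (nat_lit 4) = true := by decide +kernel
theorem eA1_k9_0 : allFrom (eA1_F (nat_lit 9)) (nat_lit 0) (nat_lit 4) = true := by decide +kernel

theorem eA1_all : Cov eA1_F 4 10 0 := by
  have h := Cov.zero eA1_F 4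
  have h := h.blk (b := 4) eA1_k0_0 rfl
  have h := h.next (y := 1) rfl rfl
  have h := h.blk (b := 4) eA1_k1_0 rfl
  have h := h.next (y := 2) rfl rfl
  have h := h.blk (b := 4) eA1_k2_0 rfl
  have h := h.next (y := 3) rfl rfl
  have h := h.blk (b := 4) eA1_k3_0 rfl
  have h := h.next (y := 4) rfl rfl
  have h := h.blk (b := 4) eA1_k4_0 rfl
  have h := h.next (y := 5) rfl rfl
  have h := h.blk (b := 4) eA1_k5_0 rfl
  have h := h.next (y := 6) rfl rfl
  have h := h.blk (b := 4) eA1_k6_0 rfl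
  have h := h.next (y := 7) rfl rfl
  have h := h.blk (b := 4) eA1_k7_0 rfl
  have h := h.next (y := 8) rfl rfl
  have h := h.blk (b := 4) eA1_k8_0 rfl
  have h := h.next (y := 9) rfl rfl
  have h := h.blk (b := 4) eA1_k9_0 rfl
  have h := h.next (y := 10) rfl rfl
  exact h

theorem eA1 : Enum RA1 [] (gensW 7) 128 :=
  ⟨eA1_cols, eA1_ch, eA1_L, eA1_H, eA1_pb.1, eA1_e.get, [(nat_lit 0), (nat_lit 1), (nat_lit 3), (nat_lit 5), (nat_lit 7), (nat_lit 9), (nat_lit 11), (nat_lit 12), (nat_lit 13), (nat_lit 14)], (nat_lit 31), (nat_lit 7), eA1_rots, eA1_hcs,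
    (nat_lit 129), (nat_lit 10), (nat_lit 256), (nat_lit 128), (nat_lit 32768), (nat_lit 16383), (nat_lit 8), (nat_lit 255), (nat_lit 19), (nat_lit 524287), (nat_lit 1), (nat_lit 4),
    fun _ _ => rfl, fun _ => rfl, fun _ _ => rfl, by decide +kernel, eA1_all.1⟩

theorem pA1 : TA1.Pres RA1 (gensW 7) := ⟨CT.ok_spec TA1_ok, lall_iff.1 TA1_rel, by decide +kernel,
  by decide +kernel, by decide +kernel, eA1.bound (ug_rels _) (bound_nil _)⟩

instance instTA1 : TA1.Grp := pA1.grp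

noncomputable def RL : List (List Nat) := [[(nat_lit 1), (nat_lit 1)],
  [(nat_lit 3), (nat_lit 3), (nat_lit 3)],
  [(nat_lit 1), (nat_lit 3), (nat_lit 1), (nat_lit 3), (nat_lit 1), (nat_lit 3), (nat_lit 1), (nat_lit 3), (nat_lit 1), (nat_lit 3), (nat_lit 1), (nat_lit 3), (nat_lit 1), (nat_lit 3)],
  [(nat_lit 1), (nat_lit 3), (nat_lit 2), (nat_lit 4), (nat_lit 1), (nat_lit 3), (nat_lit 2), (nat_lit 4), (nat_lit 1), (nat_lit 3), (nat_lit 2), (nat_lit 4), (nat_lit 1), (nat_lit 3), (nat_lit 2), (nat_lit 4), (nat_lit 6)],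
  [(nat_lit 5), (nat_lit 5)],
  [(nat_lit 1), (nat_lit 5), (nat_lit 2), (nat_lit 6)],
  [(nat_lit 3), (nat_lit 5), (nat_lit 4), (nat_lit 6)]]
noncomputable def TL_c0 : BT (Bx Nat) := (BT.node (nat_lit 1) (BT.leaf (Bx.mk (nat_lit 0x423e463c4440323634383337353922262428232725292a2e2c302b2f2d311a1e1c201b1f1d21161817190e100f11121413150a0c0b0d08090405060702030100))) (BT.node (nat_lit 2) (BT.leaf (Bx.mk (nat_lit 0x878d888e8a90858c866b736d75666f69716c746e766770686a7260645e6162655f634e4a52484c4f5349514d575b5550585d54594b5c565a413d453b433f473a))) (BT.leaf (Bx.mk (nat_lit 0xa7a6a59e9fa29ca0a3a49aa19b9d9496929893999597917a827c7e78807b837d7f777981898f848b)))))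
noncomputable def TL_c1 : BT (Bx Nat) := (BT.node (nat_lit 1) (BT.leaf (Bx.mk (nat_lit 0x584b57565554292827262524232221201f1e1d1c1b1a393837363534333231302f2e2d2c2b2a11100f0e0d0c0b0a191817161514131205040302090807060001))) (BT.node (nat_lit 2) (BT.leaf (Bx.mk (nat_lit 0x9796959493797a9291908f8e72738d8c8b8a89886a6b878685845352514f4c4a494847464544423f3d3c3b3a65646343624d4e613e605f5e5d5c5b5a50594041))) (BT.leaf (Bx.mk (nat_lit 0x9aa19d9ea09fa6a3a2a4a59b9ca783807f7e7d7c7b787776757471706f6e6d6c6968676699818298)))))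
noncomputable def TL_c3 : BT (Bx Nat) := (BT.node (nat_lit 1) (BT.leaf (Bx.mk (nat_lit 0x402c3e2b3c2a3a52504e4c4a4831474543413f3d3b3919291827172516231521141f131d121b28262422201e1c1a0911080f070d060b100e0c0a010500030402))) (BT.node (nat_lit 2) (BT.leaf (Bx.mk (nat_lit 0x627f617d607b5f79655d765b745a725970586e576c566a5c54675e82807e7c7a7877755573716f6d6b69686638533751364f354d344b33493230462f442e422d))) (BT.leaf (Bx.mk (nat_lit 0x91a7958e8d9890899499869d858a878ca39b8f88a0a4a68ba59297a2a184939f9e9c969a64836381)))))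
noncomputable def TL_c4 : BT (Bx Nat) := (BT.node (nat_lit 1) (BT.leaf (Bx.mk (nat_lit 0x2d3d2c3b2b392a53514f4d4b494732464442403e3c3a281926182417221620151e141c131a1229272523211f1d1b10090e080c070a06110f0d0b040102000503))) (BT.node (nat_lit 2) (BT.leaf (Bx.mk (nat_lit 0x7e627c617a60785f5e755d735b715a6f596d586b5769565566547783817f7d7b796576687472706e6c6a5c67523850374e364c354a344833314530432f412e3f))) (BT.leaf (Bx.mk (nat_lit 0xa6918f92978c8b9388879c8696849ea28d85a59f898ea7a195a4a398909aa094999d9b8a82648063)))))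
noncomputable def TL_c5 : BT (Bx Nat) := (BT.node (nat_lit 1) (BT.leaf (Bx.mk (nat_lit 0x3f3e3d3c3b3a393837363534333231302f2e2d2c2b2a292827262524232221201f1e1d1c1b1a191817161514131211100f0e0d0c0b0a09080706050403020100))) (BT.node (nat_lit 2) (BT.leaf (Bx.mk (nat_lit 0x7f7e7d7c7b7a797877767574737271706f6e6d6c6b6a696867666564636261605f5e5d5c5b5a595857565554535251504f4e4d4c4b4a49484746454443424140))) (BT.leaf (Bx.mk (nat_lit 0xa7a6a5a4a3a2a1a09f9e9d9c9b9a999897969594939291908f8e8d8c8b8a89888786858483828180)))))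
noncomputable def TL_w : BT (Bx Nat) := (BT.node (nat_lit 1) (BT.leaf (Bx.mk (nat_lit 0x3141413000004131413000003131413000004141313000003141313000004131313000001414141000001314141000001413141000001313141000001414131000001314131000001413131000001313131000000141414000000131414000000141314000000131314000000141413000000131413000000141313000000131313000000414141000000314141000000413141000000313141000000414131000000314131000000413131000000313131000000041414000000031414000000041314000000031314000000041413000000031413000000041313000000031313000000014141000000013141000000014131000000013131000000001414000000001314000000001413000000001313000000004141000000003141000000004131000000003131000000000414000000000314000000000413000000000313000000000141000000000131000000000014000000000013000000000041000000000031000000000004000000000003000000000001000000000000))) (BT.node (nat_lit 2) (BT.leaf (Bx.mk (nat_lit 0x414131314100314131314100413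1414131003131414131004131314131003131314131004141413131003141413131003131413131000413141414000313141414000413131414000313131414000414141314000314141314000414131314000314131314000413141413000313141413000413131413000313131413000414141313000314141313000313141313000414131313000314131313000141314141000131314141000141413141000141313141000131414131000131314131000141413131000131413131000013141414000014131414000013131414000014141314000014131314000013141413000013131413000014141313000013141313000014131313000041314141000031314141000041413141000031413141000041313141000031313141000041414131000031414131000041314131000031314131000041413131000031413131000003141414000004131414000003131414000004141314000003141314000004131314000003131314000004141413))) (BT.leaf (Bx.mk (nat_lit 0x413131413131313131413131031313141414041413131414041314141314031414131314031314131314041313141413031413131413031314141313041313141313031313141313041414131313031314131313014131314141013141413141014141313141013141313141014131414131013131414131014131314131013141413131013131413131001413141414001313141414001413131414001314141314001414131314001314131314001413141413001313141413001413131413001314141313001313141313001414131313001314131313004131314141003131314141004141413141003141413141)))))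
noncomputable def TL_cols : List (BT (Bx Nat)) := [TL_c0, TL_c1, TL_c1, TL_c3, TL_c4, TL_c5, TL_c5]
noncomputable def TL_ch (x j : Nat) : Bx Nat := chk TL_cols x j
noncomputable def TL_wc (_ j : Nat) : Bx Nat := TL_w.get j
noncomputable def TL : CT := ⟨(nat_lit 168), (nat_lit 8), (nat_lit 255), TL_ch, (nat_lit 48), (nat_lit 0xffffffffffff), TL_wc, (nat_lit 126)⟩
theorem TL_ok : TL.ok = true := by decide +kernel
theorem TL_rel : lall TL.relOK RL = true := by decide +kernel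
noncomputable def eL_c0 : BT (Bx Nat) := (BT.node (nat_lit 1) (BT.leaf (Bx.mk (nat_lit 0x806568065d48655306543865330652186501864f2064e2864d3064b3064a30649506487864770646486454064438651306433064230641306404063f3864c4863e7063d7863c5063b5063a386393063818637206363063538634506335863270631406303862f3862e4062d7062c5862b4862a406292862820627206262862540624486236062268621406204061f4061e4061d6861c6061b4061a286192861840617606164861548614606133861230611306103860f5860e5060d5060c5860b3060a30609506085060730606306054860448603386024060100000000000000000000000000000000000000000000000000000000000000000000000000000000000000000000000000000000000000000000000000000000000000000000000000000000000000000000000000000000000000000000000000000000000000000000000000000000000000000000000000000000000000000000000000000000000000000000000000000000000000000000000000000000000000000000000000000000000000000000000000000000000000000000000000000000000000000000000000000000000000000000000000000000000000000000000000000000000000000000000000000000000000000000000000000000000000000000000000000000000000000000000000000000000000000000000000000000000000000000000000000000000000000000000000000000000000000000000000000000000000000000000000000000000000000000000000000000000000000000000000000000000000000000000000000000000000000000000000000000000000000000000000000000000000000000000000000000000000000000000000000)))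 (BT.leaf (Bx.mk (nat_lit 0x3069b1868a186944868940695586885069a3868630697386853068b48684406833868230681206802867f3067e3867d2067c2067b2067a206799548740677406766067560674586735067220671206702866f2066e5066d5866c6066b6066a4066840667206784066530664206633066228661286602865f286664865e886696865c5065b2865a286595065868657))))
noncomputable def eL_c1 : BT (Bx Nat) := (BT.node (nat_lit 1) (BT.leaf (Bx.mk (nat_lit 0xe1ae4d36f1e1ae3c9d08000000000000000c9af7c1cf800000d9d0bd9d0ad9d09d9d0700000d9d0500000c2c51e8844d9d030000000000d9d02d2c4ce883f00000d9d0000000d9cfde1ad2e1ad1e1ad0e1acfe1acee1acde1acce1acbe1acae1ac900000e1ac7e1ac600000e1ac4e1ac3d9ce2d9ce100000d9cdf00000d9cddd9cdc00000d9cda0000000000d9cd7d9cd600000d9cd4d9cd3e1abae1ab9e1ab8e1ab7e1ab6e1ab5e1ab4e1ab3d9cc2d9cc1d9cc0d9cbf00000d9cbdd9cbcd9cbbe1aaee1aade1aace1aab00000d9cb1d9cb0d9cafe1aa9d9caab4f38a08a29089e7ce9f188a12cea0ad0a724ea4208a3708a59d2a6c889cd169d286a8e8884e8881e8880e887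fe887ee887de887ce8879e8878e8877e8876e8875e8872e8871e8870e886fe886ee886de886ae8869e8868e8867f029ac8882d1683f0299f0298f0297f0296f0295f0294c887ad167bf0293f0292f0291f0290f028fc8873d1674f028ef028df028cf028bf028af0289c886bd166cf0288f0287f0286f0285e8854e8853e8852e8850e884de884be884ae8849e8848e8847e8846e8845e8843e8840e883ee883de883ce883bf0266f0265f0264baeeef0263c884ed164ff0262caee8f0261f0260f025ff025ef025df025cf025bf04edf025ac8841d1642f0259f04e7f0258f0257f0256f0255e882ae8829e8828e8827e8826e8825e8824e8823e8822e8821e8820e881fe881ee881de881ce881bf023af0239f0238f0237f0236f0235f0234f0233f0232f0231f0230f022ff022ef022df022cf022be8812e8811e8810e880fe880ee880de880ce880bf021af0219f0218f0217f0216f0215f0214f0213e8806e8805e8804e8803f020af0209f0208f0207e8801f020200000))) (BT.leaf (Bx.mk (nat_lit 0xa88a8e1b17ccd25e1b16c4b26e1b13cb72de1b12bc528e1b11d371800000c9b2b000000000000000000000000000000c1d36000000000000000e9d06000000000000000c9b1c0000000000000000000000000d9d37d9d35c9b14c1d15d9d33d9d31d9d2f00000e1afb00000e1af9e1af6e1af5e1af4e1af3d36fce1af2f0321e1af0e1aefe1aece1ae9e1ae6e1ae5))))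
noncomputable def eL_c2 : BT (Bx Nat) := (BT.node (nat_lit 1) (BT.leaf (Bx.mk (nat_lit 0xe8c56da111e22e1d20fc00000e22df0000000000d20f7d22e7e22dc0000000000e22d900000e22d800000b20fae22d700000e22d60000000000d26ddd20e8e22d4d20e5e22d3c20e30000000000000000000000000da0f3d22dada0f20000000000da0ebda0e90000000000ca0e2e22c2d20d2e22c100000e22c000000e22bfd20cc00000d20cae22bd00000e22bc00000e22bbd20c40000000000000000000000000da0c7da0c5da0c3e22b2d20bae22b1d20b8e22b000000e22afd20b400000da0b7da0b5da0b3e22aa00000e22a900000da0adda0abe8c92e0ea818e96e8c8fe8c8e28c9998c91e8c8adb534db532e8c87e0e9ee8c86db52ec353330c8d20ca42869c25c90ab535106a125ca5f02a790c8cf02a618e9328c98f02a3f02a2bb52ff0536f02a0f029ff029df0530f029be8c65e0e84e8c64e0e82e8c63e0e80e8c62e0e7ee8c61e0e7ce8c60e0e7adb508e8c5ee0e77e8c5ce0e75e8c5be0e73e8c5ae0e71e8c59e0e6fe8c58e0e6de8c57e0e6bdb4fee8c55e0e68bb509f0283f0281f027ff027df027bf0279f0278f0276bb4fff0274f0272f0270f026ef026cf026af0269f0267e8c39e0e54e8c38e0e52e8c37e0e50e8c36e0e4ee8c35e0e4ce8c34e0e4ad8e33e8c31e0e47e8c30e0e45e8c2fe0e43e8c2ee0e41e8c2de0e3fe8c2ce0e3de8c2bd0c3bf0253f0251f024ff024df024bf0249e1032f0248f0246f0244f0242f0240f023ef023cd8c3ae8c1ae0e2ae8c19e0e28e8c18e0e26e8c17e0e24e8c16e0e22e8c15e0e20e8c14e0e1ee8c13e0e1cf0229f0227f0225f0223f0221f021ff021df021be8c0ae0e12e8c09e0e10e8c08e0e0ee8c07e0e0cf0211f020ff020df020be8c02e0e06e8c01e0e04f0205f020300000)))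 (BT.leaf (Bx.mk (nat_lit 0xe8c8bbc894e0ea100000e8c8900000e8c88ac897e0e9cb2138e8c85e230f00000e230e0000000000d212900000d2127e230b00000e230a0000000000e230700000e230500000e230400000e230300000e23020000000000d2116e230000000e22fd000000000000000000000000000000da124da122b2110e8c5fda11fe8c5dda11d00000da119da11700000da113))))
noncomputable def eL_c3 : BT (Bx Nat) := (BT.node (nat_lit 1) (BT.leaf (Bx.mk (nat_lit 0xc3a5de1469da512d9efbe1ee1b9eed0000000000d9ef6e1ede0000000000e1edce1edad9ef000000d9eee00000d30e000000e1ed700000e1ed6d9ee6ca4f5e1ed5d9ee4e1ed4c9ee2d1ed3da4fc000000000000000ca4e7da4f400000ca4db0000000000da4ecda4ea00000da4e5da4e3d9ed1e1ec2d9ecfe1ec1d9ecde1ec0d9ecbe1ebfd9ec9e1ebe00000e1ebd00000e1ebcd9ec3e1ebbda4d200000da4ceda4cc00000da4c8da4c6da4c4d9eb9e1eb2d9eb7e1eb1d9eb5e1eb0d9eb3e1eaf000000000000000da4b4d9eade1eaad9eabe1ea9da4aeda4acd8aa7e8a92e8a9018a9329498e8a8de8a8cdc336e8a89e8a88d8a9de8a87dc330e8a854869f314a335a8ea433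110aa6386a0b433710a8ff02a8a12a218a96f02a5f02a43da9999491f0538f02a1f0534f0532f029ef029cf052ed8a83e8a65d8a81e8a64d8a7fe8a63d8a7de8a62d8a7be8a61d8a79e8a60e8a5fd8a76e8a5ed8a74e8a5cd8a72e8a5bd8a70e8a5ad8a6ee8a59d8a6ce8a58d8a6ae8a57e8a56d8a67e8a55f0510f0284f0282f0280f027ef027cf027af0508f0277f0506f0275f0273f0271f026ff026df026bf04fef0268d8a53e8a39d8a51e8a38d8a4fe8a37d8a4de8a36d8a4be8a35d8a49e8a34e8a32d8a46e8a31d8a44e8a30d8a42e8a2fd8a40e8a2ed8a3ee8a2dd8a3ce8a2cd943ae122bf0254f0252f0250f024ef024cf024ad0a48d8a33f0247f0245f0243f0241f023ff023df023bd8a29e8a1ad8a27e8a19d8a25e8a18d8a23e8a17d8a21e8a16d8a1fe8a15d8a1de8a14d8a1be8a13f022af0228f0226f0224f0222f0220f021ef021cd8a11e8a0ad8a0fe8a09d8a0de8a08d8a0be8a07f0212f0210f020ef020cd8a05e8a02d8a03e8a01f0206f020400000))) (BT.leaf (Bx.mk (nat_lit 0xbbd2f00000e8a8ab3a95e14a0cba9ae149f00000e8a86c3a8be149bd9f2c00000d9f2a00000d9f28e1f0dd9f26e1f0c00000e1f0b00000e1f0a0000000000e1f0700000e1f05d9f1b0000000000e1f0300000e1f02d9f15e1f0100000e1f0000000e1efdbbd0900000000000000000000da525da523c3a66e1478da520bbcffda51e00000da51a0000000000da514))))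
noncomputable def eL_c4 : BT (Bx Nat) := (BT.node (nat_lit 1) (BT.leaf (Bx.mk (nat_lit 0xd385de985500000e985300000e985000000e984ee984de984be984ae9849e984800000e9846e9845e9844c1851e98430000000000e984000000e284ce983ee983de983ce983be983ae9839e9838e9837e983600000e983400000e9832e9831e9830e982fe982ee982de982ce982be982ae9829e9828e9827e9826e9825e9824e9823e9822e9821e9820e981fe981e00000e981ce981be981ae9819e9818e9817e9816e9815e9814e9813e9812e9811e9810e980fe980ee980de980ce980be980ae9809e9808e9807e9806e9805e9804e9803e9802e9801246a81bea7840a653ea543ea4158a333ea20b2a1432a05329f8d69e8b29d3569cc2b38d2b322c6991c698b47302c696bc734c47361c6931c6923c6913c6905c68f4c68e1c68d1c68ccab2ef0537f0535f0533b2b21f0531f052ff052df052cf052bf052af0529f0528f0527f0526f0525f0524f0523f0522c2b10f0520f051ff051ef051df051cf051bf051af0519f0518f0517f0516f0515f0514f0513c2b06f0512f0511cab08f050ff050ef050df050cf050bf050af0509f0507caafef0505f0504f0503f0502f0501f0500f04fff04fdf04fcf04fbf04facb2edf04f9f04f8f04f7f04f6daae7f04f5f04f4f04f3f04f2f04f1f04f0f04eff04eef04ecf04ebf04eaf04e9f04e8f04e6f04e5f04e4f04e3f04e2f04e1f04e0f04dff04def04ddf04dcf04dbf04daf04d9f04d8f04d7f04d6f04d5f04d4f04d3f04d2f04d1f04d0f04cff04cef04cdf04ccf04cbf04caf04c9f04c8f04c7f04c6f04c5f04c4f04c3f04c2f04c1f04c0f04bff04bef04bdf04bcf04bbf04baf04b9f04b8f04b7f04b6f04b5f04b4f04b3f04b2f04b1f04b0f04aff04aef04adf04acf04abf04aaf04a900000)))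 (BT.leaf (Bx.mk (nat_lit 0xcbe9b0000000000000000000000000db89a0000000000e9885d388b00000e9883e9882e988100000e987f00000e987de987c000000000000000bc08700000000000000000000e9873e9872000000000000000e986ee986de986ce986be986ae9868e9867cbe78e9865e9864e9863e9862e9861e986000000d3866e985ecbe69e985ce985be985ae9859e9858e9857))))
noncomputable def eL_p : BT (Bx Nat) := (BT.node (nat_lit 1) (BT.leaf (Bx.mk (nat_lit 0x92b092560e4aa24950492989252124a02493c49270924d12496249284924890481208e24118482289044120880c10c48210904112080240fc481f8303e1207a240f0481d8903a12072240e0481b890361206a240d0481988e3211c62238c0471788e2e11c5a238b0471588e2a11c52238a0471388e2611c4a23890471188c221184223080460f88c1e1183a23070460d88c1a1183223060460b88a161142a22850450988a12114222284045078880e1101a2203044058880a110122182043038860610c0a2101042018840210402262483c49056900ad1e1da383b468568c0ad141da242b44056870ed0e15a183b428568406d020da001b3f8367e06cfa0d9f01b3c83678068e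e0d1d81a3a83472068e20d1c01a378346e068da0d1a81a3483468068ce0d1943a32854640e8c81518c3a31854620e8c4151843a30854600e8c01517c292f0725e0a4b81c970292d8725b0a4b41c968292c872590a4b01c960292b872570a4ac14954392a85254064a60c94819280324d064960c9281924830480608e0c118182283043060800c0f8181e8303c060760c0e4381c850380e070140dc381b850360e06c140d4381a850340e068138c8271886e3109c601b8c0271786e2f09c5c1b8b8271686e2d09c581b8b0271586e2a05c520b8a0171382e2605c4a0b890171182c22058420b080160f82c1e0583a0b070160d82c1a0d83413064360c84c180d8301305c360b84a160d42c12854350a84a140d4281284c350984a12054220a84015078280e0501a0a03014058280a0d014120243404846080cc101181c33038460604c0a090101201824020c8041080431008420104000000000))) (BT.leaf (Bx.mk (nat_lit 0x5a2c3b450968a0ad1225a243b44096880ed0c25a182b42896850ed0825a0c4b410968112d00259fc4b3f0967d12cf8259ec4b3d0967912a0c0d1dc4a3b09475128e8251cc4a3909471128e0251bc4a370946d128d8251ac4a3509468128ce251983a3289464128c6251884a3089460128be2517c392f0925d0e4b82496c492d09259124b02495c4))))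
noncomputable def eL_e0 : BT Nat := (BT.node (nat_lit 15232) (BT.node (nat_lit 12864) (BT.node (nat_lit 11648) (BT.node (nat_lit 11072) (BT.node (nat_lit 9921) (BT.node (nat_lit 9666) (BT.node (nat_lit 9539) (BT.leaf (nat_lit 1240)) (BT.leaf (nat_lit 1232))) (BT.node (nat_lit 9859) (BT.leaf (nat_lit 1216)) (BT.leaf (nat_lit 1224)))) (BT.node (nat_lit 10880) (BT.node (nat_lit 10816) (BT.leaf (nat_lit 1248)) (BT.leaf (nat_lit 44041))) (BT.node (nat_lit 10944) (BT.leaf (nat_lit 43269)) (BT.node (nat_lit 11008) (BT.leaf (nat_lit 44805)) (BT.leaf (nat_lit 45061)))))) (BT.node (nat_lit 11328) (BT.node (nat_lit 11200) (BT.node (nat_lit 11136) (BT.leaf (nat_lit 43529)) (BT.leaf (nat_lit 43533))) (BT.node (nat_lit 11264) (BT.leaf (nat_lit 45837)) (BT.leaf (nat_lit 46601)))) (BT.node (nat_lit 11456) (BT.node (nat_lit 11392) (BT.leaf (nat_lit 46861)) (BT.leaf (nat_lit 47625))) (BT.node (nat_lit 11520) (BT.leaf (nat_lit 47877)) (BT.node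 (nat_lit 11584) (BT.leaf (nat_lit 45833)) (BT.leaf (nat_lit 46605))))))) (BT.node (nat_lit 12224) (BT.node (nat_lit 11904) (BT.node (nat_lit 11776) (BT.node (nat_lit 11712) (BT.leaf (nat_lit 48645)) (BT.leaf (nat_lit 48901))) (BT.node (nat_lit 11840) (BT.leaf (nat_lit 46857)) (BT.leaf (nat_lit 47629)))) (BT.node (nat_lit 12032) (BT.node (nat_lit 11968) (BT.leaf (nat_lit 49669)) (BT.leaf (nat_lit 50185))) (BT.node (nat_lit 12096) (BT.leaf (nat_lit 46085)) (BT.node (nat_lit 12160) (BT.leaf (nat_lit 46341)) (BT.leaf (nat_lit 51469)))))) (BT.node (nat_lit 12544) (BT.node (nat_lit 12352) (BT.node (nat_lit 12288) (BT.leaf (nat_lit 51981)) (BT.leaf (nat_lit 47109))) (BT.node (nat_lit 12416) (BT.leaf (nat_lit 47365)) (BT.node (nat_lit 12480) (BT.leaf (nat_lit 53769)) (BT.leaf (nat_lit 50189))))) (BT.node (nat_lit 12672) (BT.node (nat_lit 12608) (BT.leaf (nat_lit 54277)) (BT.leaf (nat_lit 48137))) (BT.node (nat_lit 12736) (BT.leaf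 (nat_lit 48141)) (BT.node (nat_lit 12800) (BT.leaf (nat_lit 48393)) (BT.leaf (nat_lit 48397)))))))) (BT.node (nat_lit 14016) (BT.node (nat_lit 13440) (BT.node (nat_lit 13120) (BT.node (nat_lit 12992) (BT.node (nat_lit 12928) (BT.leaf (nat_lit 55557)) (BT.leaf (nat_lit 51465))) (BT.node (nat_lit 13056) (BT.leaf (nat_lit 56069)) (BT.leaf (nat_lit 51977)))) (BT.node (nat_lit 13248) (BT.node (nat_lit 13184) (BT.leaf (nat_lit 56581)) (BT.leaf (nat_lit 49165))) (BT.node (nat_lit 13312) (BT.leaf (nat_lit 53261)) (BT.node (nat_lit 13376) (BT.leaf (nat_lit 57349)) (BT.leaf (nat_lit 53773)))))) (BT.node (nat_lit 13696) (BT.node (nat_lit 13568) (BT.node (nat_lit 13504) (BT.leaf (nat_lit 57861)) (BT.leaf (nat_lit 49925))) (BT.node (nat_lit 13632) (BT.leaf (nat_lit 58381)) (BT.leaf (nat_lit 58893)))) (BT.node (nat_lit 13824) (BT.node (nat_lit 13760) (BT.leaf (nat_lit 50693)) (BT.leaf (nat_lit 50949))) (BT.node (nat_lit 13888) (BT.leaf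 (nat_lit 61193)) (BT.node (nat_lit 13952) (BT.leaf (nat_lit 61705)) (BT.leaf (nat_lit 51717))))))) (BT.node (nat_lit 14592) (BT.node (nat_lit 14272) (BT.node (nat_lit 14144) (BT.node (nat_lit 14080) (BT.leaf (nat_lit 55821)) (BT.leaf (nat_lit 52229))) (BT.node (nat_lit 14208) (BT.leaf (nat_lit 59145)) (BT.leaf (nat_lit 62989)))) (BT.node (nat_lit 14400) (BT.node (nat_lit 14336) (BT.leaf (nat_lit 52997)) (BT.leaf (nat_lit 60685))) (BT.node (nat_lit 14464) (BT.leaf (nat_lit 53509)) (BT.node (nat_lit 14528) (BT.leaf (nat_lit 54025)) (BT.leaf (nat_lit 54029)))))) (BT.node (nat_lit 14912) (BT.node (nat_lit 14720) (BT.node (nat_lit 14656) (BT.leaf (nat_lit 65285)) (BT.leaf (nat_lit 58377))) (BT.node (nat_lit 14784) (BT.leaf (nat_lit 65797)) (BT.node (nat_lit 14848) (BT.leaf (nat_lit 59397)) (BT.leaf (nat_lit 58889))))) (BT.node (nat_lit 15040) (BT.node (nat_lit 14976) (BT.leaf (nat_lit 54793)) (BT.leaf (nat_lit 54797))) (BT.node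 (nat_lit 15104) (BT.leaf (nat_lit 55049)) (BT.node (nat_lit 15168) (BT.leaf (nat_lit 55053)) (BT.leaf (nat_lit 60933))))))))) (BT.node (nat_lit 17600) (BT.node (nat_lit 16384) (BT.node (nat_lit 15808) (BT.node (nat_lit 15488) (BT.node (nat_lit 15360) (BT.node (nat_lit 15296) (BT.leaf (nat_lit 61197)) (BT.leaf (nat_lit 66565))) (BT.node (nat_lit 15424) (BT.leaf (nat_lit 61709)) (BT.leaf (nat_lit 65029)))) (BT.node (nat_lit 15616) (BT.node (nat_lit 15552) (BT.leaf (nat_lit 55817)) (BT.leaf (nat_lit 56329))) (BT.node (nat_lit 15680) (BT.leaf (nat_lit 56333)) (BT.node (nat_lit 15744) (BT.leaf (nat_lit 59149)) (BT.leaf (nat_lit 68613)))))) (BT.node (nat_lit 16064) (BT.node (nat_lit 15936) (BT.node (nat_lit 15872) (BT.leaf (nat_lit 62985)) (BT.leaf (nat_lit 63237))) (BT.node (nat_lit 16000) (BT.leaf (nat_lit 68869)) (BT.leaf (nat_lit 60681)))) (BT.node (nat_lit 16192) (BT.node (nat_lit 16128) (BT.leaf (nat_lit 69381)) (BT.leaf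 (nat_lit 64265))) (BT.node (nat_lit 16256) (BT.leaf (nat_lit 58117)) (BT.node (nat_lit 16320) (BT.leaf (nat_lit 67081)) (BT.leaf (nat_lit 67085))))))) (BT.node (nat_lit 16960) (BT.node (nat_lit 16640) (BT.node (nat_lit 16512) (BT.node (nat_lit 16448) (BT.leaf (nat_lit 58629)) (BT.leaf (nat_lit 70925))) (BT.node (nat_lit 16576) (BT.leaf (nat_lit 59653)) (BT.leaf (nat_lit 60421)))) (BT.node (nat_lit 16768) (BT.node (nat_lit 16704) (BT.leaf (nat_lit 72713)) (BT.leaf (nat_lit 61445))) (BT.node (nat_lit 16832) (BT.leaf (nat_lit 73989)) (BT.node (nat_lit 16896) (BT.leaf (nat_lit 61957)) (BT.leaf (nat_lit 64517)))))) (BT.node (nat_lit 17280) (BT.node (nat_lit 17088) (BT.node (nat_lit 17024) (BT.leaf (nat_lit 62213)) (BT.leaf (nat_lit 62469))) (BT.node (nat_lit 17152) (BT.leaf (nat_lit 62725)) (BT.node (nat_lit 17216) (BT.leaf (nat_lit 75277)) (BT.leaf (nat_lit 75789))))) (BT.node (nat_lit 17408) (BT.node (nat_lit 17344) (BT.leaf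 (nat_lit 76553)) (BT.leaf (nat_lit 77065))) (BT.node (nat_lit 17472) (BT.leaf (nat_lit 67849)) (BT.node (nat_lit 17536) (BT.leaf (nat_lit 64777)) (BT.leaf (nat_lit 64781)))))))) (BT.node (nat_lit 18816) (BT.node (nat_lit 18176) (BT.node (nat_lit 17856) (BT.node (nat_lit 17728) (BT.node (nat_lit 17664) (BT.leaf (nat_lit 65545)) (BT.leaf (nat_lit 65549))) (BT.node (nat_lit 17792) (BT.leaf (nat_lit 70661)) (BT.leaf (nat_lit 70921)))) (BT.node (nat_lit 17984) (BT.node (nat_lit 17920) (BT.leaf (nat_lit 66057)) (BT.leaf (nat_lit 77317))) (BT.node (nat_lit 18048) (BT.leaf (nat_lit 66313)) (BT.node (nat_lit 18112) (BT.leaf (nat_lit 66317)) (BT.leaf (nat_lit 72717)))))) (BT.node (nat_lit 18432) (BT.node (nat_lit 18304) (BT.node (nat_lit 18240) (BT.leaf (nat_lit 72965)) (BT.leaf (nat_lit 66825))) (BT.node (nat_lit 18368) (BT.leaf (nat_lit 66829)) (BT.leaf (nat_lit 67337)))) (BT.node (nat_lit 18624) (BT.node (nat_lit 18560) (BT.leaf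 (nat_lit 67341)) (BT.leaf (nat_lit 68105))) (BT.node (nat_lit 18688) (BT.leaf (nat_lit 68109)) (BT.node (nat_lit 18752) (BT.leaf (nat_lit 68361)) (BT.leaf (nat_lit 68365))))))) (BT.node (nat_lit 19392) (BT.node (nat_lit 19072) (BT.node (nat_lit 18944) (BT.node (nat_lit 18880) (BT.leaf (nat_lit 78853)) (BT.leaf (nat_lit 75273))) (BT.node (nat_lit 19008) (BT.leaf (nat_lit 77829)) (BT.leaf (nat_lit 75785)))) (BT.node (nat_lit 19200) (BT.node (nat_lit 19136) (BT.leaf (nat_lit 76557)) (BT.leaf (nat_lit 76805))) (BT.node (nat_lit 19264) (BT.leaf (nat_lit 77069)) (BT.node (nat_lit 19328) (BT.leaf (nat_lit 78341)) (BT.leaf (nat_lit 77581)))))) (BT.node (nat_lit 19712) (BT.node (nat_lit 19520) (BT.node (nat_lit 19456) (BT.leaf (nat_lit 69893)) (BT.leaf (nat_lit 78089))) (BT.node (nat_lit 19584) (BT.leaf (nat_lit 70149)) (BT.node (nat_lit 19648) (BT.leaf (nat_lit 78605)) (BT.leaf (nat_lit 70405))))) (BT.node (nat_lit 19840) (BT.node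 (nat_lit 19776) (BT.leaf (nat_lit 79117)) (BT.leaf (nat_lit 71173))) (BT.node (nat_lit 19904) (BT.leaf (nat_lit 75013)) (BT.node (nat_lit 19968) (BT.leaf (nat_lit 71429)) (BT.leaf (nat_lit 77577))))))))))
noncomputable def eL_e : BT Nat := eL_e0
noncomputable def eL_cols : List (BT (Bx Nat)) := [eL_c0, eL_c1, eL_c2, eL_c3, eL_c4]
noncomputable def eL_ch (x j : Nat) : Bx Nat := chunkG eL_cols (nat_lit 2) x j
noncomputable def eL_L (x : Nat) : Bx (Nat → Nat) := lookG eL_ch (nat_lit 8) (nat_lit 255) (nat_lit 20) (nat_lit 1048575) x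
noncomputable def eL_pc (_ j : Nat) : Bx Nat := eL_p.get j
noncomputable def eL_pb : Bx (Nat → Nat) := lookG eL_pc (nat_lit 8) (nat_lit 255) (nat_lit 19) (nat_lit 524287) (nat_lit 0)
noncomputable def eL_rots : BT CW := (BT.node (nat_lit 23) (BT.node (nat_lit 11) (BT.node (nat_lit 5) (BT.node (nat_lit 2) (BT.node (nat_lit 1) (BT.leaf ⟨[], (nat_lit 1000000), (nat_lit 0), (nat_lit 0), (nat_lit 0)⟩) (BT.leaf ⟨[], (nat_lit 1000000), (nat_lit 0), (nat_lit 0), (nat_lit 1)⟩)) (BT.node (nat_lit 3) (BT.leaf ⟨[], (nat_lit 1000000), (nat_lit 0), (nat_lit 0), (nat_lit 2)⟩) (BT.node (nat_lit 4) (BT.leaf ⟨[(nat_lit 1), (nat_lit 1)], (nat_lit 0), (nat_lit 0), (nat_lit 0), (nat_lit 3)⟩) (BT.leaf ⟨[(nat_lit 3), (nat_lit 2)], (nat_lit 8), (nat_lit 1), (nat_lit 0), (nat_lit 3)⟩)))) (BT.node (nat_lit 8) (BT.node (nat_lit 6) (BT.leaf ⟨[(nat_lit 2), (nat_lit 3)], (nat_lit 8), (nat_lit 0), (nat_lit 0), (nat_lit 3)⟩) (BT.node (nat_lit 7) (BT.leaf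 ⟨[(nat_lit 2), (nat_lit 2), (nat_lit 2)], (nat_lit 1), (nat_lit 0), (nat_lit 0), (nat_lit 3)⟩) (BT.leaf ⟨[(nat_lit 2), (nat_lit 1), (nat_lit 2), (nat_lit 1), (nat_lit 2), (nat_lit 1), (nat_lit 2), (nat_lit 1), (nat_lit 2), (nat_lit 1), (nat_lit 2), (nat_lit 1), (nat_lit 2), (nat_lit 1)], (nat_lit 2), (nat_lit 1), (nat_lit 0), (nat_lit 3)⟩))) (BT.node (nat_lit 9) (BT.leaf ⟨[(nat_lit 3), (nat_lit 1), (nat_lit 3), (nat_lit 1), (nat_lit 3), (nat_lit 1), (nat_lit 3), (nat_lit 1), (nat_lit 3), (nat_lit 1), (nat_lit 3), (nat_lit 1), (nat_lit 3), (nat_lit 1)], (nat_lit 12), (nat_lit 0), (nat_lit 0), (nat_lit 3)⟩) (BT.node (nat_lit 10) (BT.leaf ⟨[(nat_lit 3), (nat_lit 3), (nat_lit 3)], (nat_lit 11), (nat_lit 0), (nat_lit 0), (nat_lit 3)⟩) (BT.leaf ⟨[(nat_lit 1), (nat_lit 3), (nat_lit 1), (nat_lit 3), (nat_lit 1), (nat_lit 3), (nat_lit 1), (nat_lit 3), (nat_lit 1), (nat_lit 3), (nat_lit 1), (nat_lit 3), (nat_lit 1), (nat_lit 3)],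 (nat_lit 12), (nat_lit 1), (nat_lit 0), (nat_lit 3)⟩))))) (BT.node (nat_lit 17) (BT.node (nat_lit 14) (BT.node (nat_lit 12) (BT.leaf ⟨[(nat_lit 4), (nat_lit 4)], (nat_lit 4), (nat_lit 0), (nat_lit 0), (nat_lit 3)⟩) (BT.node (nat_lit 13) (BT.leaf ⟨[(nat_lit 1), (nat_lit 4), (nat_lit 1), (nat_lit 4)], (nat_lit 5), (nat_lit 0), (nat_lit 0), (nat_lit 4)⟩) (BT.leaf ⟨[(nat_lit 1), (nat_lit 1)], (nat_lit 0), (nat_lit 0), (nat_lit 0), (nat_lit 4)⟩))) (BT.node (nat_lit 15) (BT.leaf ⟨[(nat_lit 3), (nat_lit 4), (nat_lit 2), (nat_lit 4)], (nat_lit 6), (nat_lit 2), (nat_lit 0), (nat_lit 4)⟩) (BT.node (nat_lit 16) (BT.leaf ⟨[(nat_lit 2), (nat_lit 3)], (nat_lit 8), (nat_lit 0), (nat_lit 0), (nat_lit 4)⟩) (BT.leaf ⟨[(nat_lit 2), (nat_lit 4), (nat_lit 3), (nat_lit 4)], (nat_lit 6), (nat_lit 0), (nat_lit 0), (nat_lit 4)⟩)))) (BT.node (nat_lit 20) (BT.node (nat_lit 18) (BT.leaf ⟨[(nat_lit 3), (nat_lit 2)], (nat_lit 8), (nat_lit 1), (nat_lit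 0), (nat_lit 4)⟩) (BT.node (nat_lit 19) (BT.leaf ⟨[(nat_lit 2), (nat_lit 1), (nat_lit 3), (nat_lit 1), (nat_lit 2), (nat_lit 1), (nat_lit 3), (nat_lit 1), (nat_lit 2), (nat_lit 1), (nat_lit 3), (nat_lit 4), (nat_lit 1), (nat_lit 2), (nat_lit 1), (nat_lit 3), (nat_lit 1)], (nat_lit 3), (nat_lit 5), (nat_lit 0), (nat_lit 4)⟩) (BT.leaf ⟨[(nat_lit 4), (nat_lit 2), (nat_lit 1), (nat_lit 3), (nat_lit 1), (nat_lit 2), (nat_lit 1), (nat_lit 3), (nat_lit 1), (nat_lit 2), (nat_lit 1), (nat_lit 3), (nat_lit 1), (nat_lit 2), (nat_lit 1), (nat_lit 3), (nat_lit 1)], (nat_lit 13), (nat_lit 0), (nat_lit 0), (nat_lit 3)⟩))) (BT.node (nat_lit 21) (BT.leaf ⟨[(nat_lit 4), (nat_lit 4)], (nat_lit 4), (nat_lit 0), (nat_lit 0), (nat_lit 5)⟩) (BT.node (nat_lit 22) (BT.leaf ⟨[(nat_lit 1), (nat_lit 4), (nat_lit 1), (nat_lit 4)], (nat_lit 5), (nat_lit 0), (nat_lit 0), (nat_lit 3)⟩) (BT.leaf ⟨[(nat_lit 1), (nat_lit 1)], (nat_lit 0), (nat_lit 0),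 (nat_lit 0), (nat_lit 5)⟩)))))) (BT.node (nat_lit 34) (BT.node (nat_lit 28) (BT.node (nat_lit 25) (BT.node (nat_lit 24) (BT.leaf ⟨[(nat_lit 3), (nat_lit 1), (nat_lit 2), (nat_lit 1), (nat_lit 3), (nat_lit 1), (nat_lit 2), (nat_lit 1), (nat_lit 3), (nat_lit 1), (nat_lit 2), (nat_lit 1), (nat_lit 3), (nat_lit 4), (nat_lit 1), (nat_lit 2), (nat_lit 1)], (nat_lit 3), (nat_lit 3), (nat_lit 0), (nat_lit 4)⟩) (BT.leaf ⟨[(nat_lit 4), (nat_lit 3), (nat_lit 4), (nat_lit 2)], (nat_lit 6), (nat_lit 1), (nat_lit 0), (nat_lit 5)⟩)) (BT.node (nat_lit 26) (BT.leaf ⟨[(nat_lit 2), (nat_lit 3)], (nat_lit 8), (nat_lit 0), (nat_lit 0), (nat_lit 5)⟩) (BT.node (nat_lit 27) (BT.leaf ⟨[(nat_lit 1), (nat_lit 2), (nat_lit 1), (nat_lit 3), (nat_lit 1), (nat_lit 2), (nat_lit 1), (nat_lit 3), (nat_lit 1), (nat_lit 2), (nat_lit 1), (nat_lit 3), (nat_lit 4), (nat_lit 1), (nat_lit 2), (nat_lit 1), (nat_lit 3)], (nat_lit 3), (nat_lit 4), (nat_lit 0),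 (nat_lit 4)⟩) (BT.leaf ⟨[(nat_lit 4), (nat_lit 1), (nat_lit 2), (nat_lit 1), (nat_lit 3), (nat_lit 1), (nat_lit 2), (nat_lit 1), (nat_lit 3), (nat_lit 1), (nat_lit 2), (nat_lit 1), (nat_lit 3), (nat_lit 1), (nat_lit 2), (nat_lit 1), (nat_lit 3)], (nat_lit 3), (nat_lit 16), (nat_lit 0), (nat_lit 3)⟩)))) (BT.node (nat_lit 31) (BT.node (nat_lit 29) (BT.leaf ⟨[(nat_lit 3), (nat_lit 4), (nat_lit 2), (nat_lit 4)], (nat_lit 6), (nat_lit 2), (nat_lit 0), (nat_lit 3)⟩) (BT.node (nat_lit 30) (BT.leaf ⟨[(nat_lit 3), (nat_lit 3), (nat_lit 3)], (nat_lit 11), (nat_lit 0), (nat_lit 0), (nat_lit 4)⟩) (BT.leaf ⟨[(nat_lit 4), (nat_lit 2), (nat_lit 4), (nat_lit 3)], (nat_lit 6), (nat_lit 3), (nat_lit 0), (nat_lit 3)⟩))) (BT.node (nat_lit 32) (BT.leaf ⟨[(nat_lit 4), (nat_lit 1), (nat_lit 4), (nat_lit 1)], (nat_lit 5), (nat_lit 1), (nat_lit 0), (nat_lit 3)⟩) (BT.node (nat_lit 33) (BT.leaf ⟨[(nat_lit 3), (nat_lit 2)], (nat_lit 8), (nat_lit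 1), (nat_lit 0), (nat_lit 5)⟩) (BT.leaf ⟨[(nat_lit 1), (nat_lit 3), (nat_lit 1), (nat_lit 2), (nat_lit 1), (nat_lit 3), (nat_lit 1), (nat_lit 2), (nat_lit 1), (nat_lit 3), (nat_lit 1), (nat_lit 2), (nat_lit 1), (nat_lit 3), (nat_lit 4), (nat_lit 1), (nat_lit 2)], (nat_lit 3), (nat_lit 2), (nat_lit 0), (nat_lit 4)⟩))))) (BT.node (nat_lit 40) (BT.node (nat_lit 37) (BT.node (nat_lit 35) (BT.leaf ⟨[(nat_lit 4), (nat_lit 1), (nat_lit 4), (nat_lit 1)], (nat_lit 5), (nat_lit 1), (nat_lit 0), (nat_lit 5)⟩) (BT.node (nat_lit 36) (BT.leaf ⟨[(nat_lit 2), (nat_lit 4), (nat_lit 3), (nat_lit 4)], (nat_lit 6), (nat_lit 0), (nat_lit 0), (nat_lit 3)⟩) (BT.leaf ⟨[(nat_lit 1), (nat_lit 3), (nat_lit 1), (nat_lit 3), (nat_lit 1), (nat_lit 3), (nat_lit 1), (nat_lit 3), (nat_lit 1), (nat_lit 3), (nat_lit 1), (nat_lit 3), (nat_lit 1), (nat_lit 3)], (nat_lit 12), (nat_lit 1), (nat_lit 0), (nat_lit 4)⟩))) (BT.node (nat_lit 38) (BT.leaf ⟨[(nat_lit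 1), (nat_lit 2), (nat_lit 1), (nat_lit 2), (nat_lit 1), (nat_lit 2), (nat_lit 1), (nat_lit 2), (nat_lit 1), (nat_lit 2), (nat_lit 1), (nat_lit 2), (nat_lit 1), (nat_lit 2)], (nat_lit 2), (nat_lit 0), (nat_lit 0), (nat_lit 4)⟩) (BT.node (nat_lit 39) (BT.leaf ⟨[(nat_lit 1), (nat_lit 3), (nat_lit 1), (nat_lit 3), (nat_lit 1), (nat_lit 3), (nat_lit 1), (nat_lit 3), (nat_lit 1), (nat_lit 3), (nat_lit 1), (nat_lit 3), (nat_lit 1), (nat_lit 3)], (nat_lit 12), (nat_lit 1), (nat_lit 0), (nat_lit 5)⟩) (BT.leaf ⟨[(nat_lit 1), (nat_lit 2), (nat_lit 1), (nat_lit 2), (nat_lit 1), (nat_lit 2), (nat_lit 1), (nat_lit 2), (nat_lit 1), (nat_lit 2), (nat_lit 1), (nat_lit 2), (nat_lit 1), (nat_lit 2)], (nat_lit 2), (nat_lit 0), (nat_lit 0), (nat_lit 3)⟩)))) (BT.node (nat_lit 43) (BT.node (nat_lit 41) (BT.leaf ⟨[(nat_lit 1), (nat_lit 3), (nat_lit 1), (nat_lit 2), (nat_lit 1), (nat_lit 3), (nat_lit 1), (nat_lit 2), (nat_lit 1), (nat_lit 3),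 (nat_lit 4), (nat_lit 1), (nat_lit 2), (nat_lit 1), (nat_lit 3), (nat_lit 1), (nat_lit 2)], (nat_lit 3), (nat_lit 6), (nat_lit 0), (nat_lit 3)⟩) (BT.node (nat_lit 42) (BT.leaf ⟨[(nat_lit 0), (nat_lit 3), (nat_lit 1), (nat_lit 3), (nat_lit 1), (nat_lit 3), (nat_lit 1), (nat_lit 3), (nat_lit 1), (nat_lit 3), (nat_lit 1), (nat_lit 3), (nat_lit 1), (nat_lit 3), (nat_lit 1)], (nat_lit 12), (nat_lit 0), (nat_lit 1), (nat_lit 3)⟩) (BT.leaf ⟨[(nat_lit 4), (nat_lit 2), (nat_lit 4), (nat_lit 3)], (nat_lit 6), (nat_lit 3), (nat_lit 0), (nat_lit 5)⟩))) (BT.node (nat_lit 44) (BT.leaf ⟨[(nat_lit 4), (nat_lit 3), (nat_lit 4), (nat_lit 2)], (nat_lit 6), (nat_lit 1), (nat_lit 0), (nat_lit 3)⟩) (BT.node (nat_lit 45) (BT.leaf ⟨[(nat_lit 3), (nat_lit 1), (nat_lit 3), (nat_lit 1), (nat_lit 3), (nat_lit 1), (nat_lit 3), (nat_lit 1), (nat_lit 3), (nat_lit 1), (nat_lit 3), (nat_lit 1), (nat_lit 3), (nat_lit 1)], (nat_lit 12), (nat_lit 0), (nat_lit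 0), (nat_lit 5)⟩) (BT.leaf ⟨[(nat_lit 2), (nat_lit 1), (nat_lit 2), (nat_lit 1), (nat_lit 2), (nat_lit 1), (nat_lit 2), (nat_lit 1), (nat_lit 2), (nat_lit 1), (nat_lit 2), (nat_lit 1), (nat_lit 2), (nat_lit 1)], (nat_lit 2), (nat_lit 1), (nat_lit 0), (nat_lit 5)⟩)))))))
noncomputable def eL_hcs : List CW := []
noncomputable def eL_H (x j : Nat) : Bx (Nat → Nat → Nat) := mkH eL_L eL_pb.1 eL_e.get (lmap CW.w eL_hcs) (nat_lit 168) (nat_lit 169) (nat_lit 5) (nat_lit 512) (nat_lit 32768) (nat_lit 32767) x (eL_rots.get j)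
noncomputable def eL_F (x b : Nat) : Bool := blkOK eL_H eL_ch (nat_lit 169) (nat_lit 512) (nat_lit 64) (nat_lit 8) (nat_lit 255) (nat_lit 20) (nat_lit 1048575) x b

theorem eL_k0_0 : allFrom (eL_F (nat_lit 0)) (nat_lit 0) (nat_lit 8) = true := by decide +kernel
theorem eL_k1_0 : allFrom (eL_F (nat_lit 1)) (nat_lit 0) (nat_lit 8) = true := by decide +kernel
theorem eL_k2_0 : allFrom (eL_F (nat_lit 2)) (nat_lit 0) (nat_lit 8) = true := by decide +kernel
theorem eL_k3_0 : allFrom (eL_F (nat_lit 3)) (nat_lit 0) (nat_lit 8) = true := by decide +kernel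
theorem eL_k4_0 : allFrom (eL_F (nat_lit 4)) (nat_lit 0) (nat_lit 8) = true := by decide +kernel

theorem eL_all : Cov eL_F 8 5 0 := by
  have h := Cov.zero eL_F 8
  have h := h.blk (b := 8) eL_k0_0 rfl
  have h := h.next (y := 1) rfl rfl
  have h := h.blk (b := 8) eL_k1_0 rfl
  have h := h.next (y := 2) rfl rfl
  have h := h.blk (b := 8) eL_k2_0 rfl
  have h := h.next (y := 3) rfl rfl
  have h := h.blk (b := 8) eL_k3_0 rfl
  have h := h.next (y := 4) rfl rfl
  have h := h.blk (b := 8) eL_k4_0 rfl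
  have h := h.next (y := 5) rfl rfl
  exact h

theorem eL : Enum RL [] (gensW 3) 168 :=
  ⟨eL_cols, eL_ch, eL_L, eL_H, eL_pb.1, eL_e.get, [(nat_lit 0), (nat_lit 1), (nat_lit 3), (nat_lit 4), (nat_lit 5)], (nat_lit 5), (nat_lit 3), eL_rots, eL_hcs,
    (nat_lit 169), (nat_lit 5), (nat_lit 512), (nat_lit 64), (nat_lit 32768), (nat_lit 32767), (nat_lit 8), (nat_lit 255), (nat_lit 20), (nat_lit 1048575), (nat_lit 2), (nat_lit 8),
    fun _ _ => rfl, fun _ => rfl, fun _ _ => rfl, by decide +kernel, eL_all.1⟩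

theorem pL : TL.Pres RL (gensW 3) := ⟨CT.ok_spec TL_ok, lall_iff.1 TL_rel, by decide +kernel,
  by decide +kernel, by decide +kernel, eL.bound (ug_rels _) (bound_nil _)⟩

instance instTL : TL.Grp := pL.grp

end CF.GH3
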